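import Cfsg.Agent.Lib.Helper30.Fi24.F306936ChkL0
import Cfsg.Agent.Lib.Helper30.Fi24.F306936ChkL1
import Cfsg.Agent.Lib.Helper30.Fi24.F306936ChkL2
import Cfsg.Agent.Lib.Helper30.Fi24.F306936ChkL3
import Cfsg.Agent.Lib.Helper30.Fi24.F306936ChkL4
import Cfsg.Agent.Lib.Helper30.Fi24.F306936ChkL5
import Cfsg.Agent.Lib.Helper30.Fi24.F306936ChkL6
import Cfsg.Agent.Lib.Helper30.Fi24.F306936ChkL7
import Cfsg.Agent.Lib.Helper30.Fi24.F306936ChkL8
import Cfsg.Agent.Lib.Helper30.Fi24.F306936ChkL9
import Cfsg.Agent.Lib.Helper30.Fi24.F306936ChkL10
import Cfsg.Agent.Lib.Helper30.Fi24.F306936ChkL11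
import Cfsg.Agent.Lib.Helper30.Fi24.F306936ChkL12
import Cfsg.Agent.Lib.Helper30.Fi24.F306936ChkL13
import Cfsg.Agent.Lib.Helper30.Fi24.F306936ChkL14
import Cfsg.Agent.Lib.Helper30.Fi24.F306936ChkL15
import Cfsg.Agent.Lib.Helper30.Fi24.F306936ChkL16
import Cfsg.Agent.Lib.Helper30.Fi24.F306936ChkL17
import Cfsg.Agent.Lib.Helper30.Fi24.F306936ChkL18
import Cfsg.Agent.Lib.Helper30.Fi24.F306936ChkL19
import Cfsg.Agent.Lib.Helper30.Fi24.F306936ChkL20
import Cfsg.Agent.Lib.Helper30.Fi24.F306936ChkL21
import Cfsg.Agent.Lib.Helper30.Fi24.F306936ChkL22
import Cfsg.Agent.Lib.Helper30.Fi24.F306936ChkL23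
import Cfsg.Agent.Lib.Helper30.Fi24.F306936ChkL24
import Cfsg.Agent.Lib.Helper30.Fi24.F306936ChkL25
import Cfsg.Agent.Lib.Helper30.Fi24.F306936ChkL26
import Cfsg.Agent.Lib.Helper30.Fi24.F306936ChkL27
import Cfsg.Agent.Lib.Helper30.Fi24.F306936ChkL28
import Cfsg.Agent.Lib.Helper30.Fi24.F306936ChkL29
import Cfsg.Agent.Lib.Helper30.Fi24.F306936ChkL30
import Cfsg.Agent.Lib.Helper30.Fi24.F306936ChkL31
import Cfsg.Agent.Lib.Helper30.Fi24.F306936ChkL32
import Cfsg.Agent.Lib.Helper30.Fi24.F306936ChkL33
import Cfsg.Agent.Lib.Helper30.Fi24.F306936ChkL34
import Cfsg.Agent.Lib.Helper30.Fi24.F306936ChkL35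
import Cfsg.Agent.Lib.Helper30.Fi24.F306936ChkL36
import Cfsg.Agent.Lib.Helper30.Fi24.F306936ChkL37
import Cfsg.Agent.Lib.Helper30.Fi24.F306936ChkL38
import Cfsg.Agent.Lib.Helper30.Fi24.F306936ChkL39
import Cfsg.Agent.Lib.Helper30.Fi24.F306936ChkL40
import Cfsg.Agent.Lib.Helper30.Fi24.F306936ChkL41
import Cfsg.Agent.Lib.Helper30.Fi24.F306936ChkL42
import Cfsg.Agent.Lib.Helper30.Fi24.F306936ChkL43
import Cfsg.Agent.Lib.Helper30.Fi24.F306936ChkL44
import Cfsg.Agent.Lib.Helper30.Fi24.F306936ChkL45
import Cfsg.Agent.Lib.Helper30.Fi24.F306936ChkL46
import Cfsg.Agent.Lib.Helper30.Fi24.F306936ChkL47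
import Cfsg.Agent.Lib.Helper30.Fi24.F306936ChkL48
import Cfsg.Agent.Lib.Helper30.Fi24.F306936ChkL49
import Cfsg.Agent.Lib.Helper30.Fi24.F306936ChkL50
import Cfsg.Agent.Lib.Helper30.Fi24.F306936ChkL51
import Cfsg.Agent.Lib.Helper30.Fi24.F306936ChkL52
import Cfsg.Agent.Lib.Helper30.Fi24.F306936ChkL53
import Cfsg.Agent.Lib.Helper30.Fi24.F306936ChkL54
import Cfsg.Agent.Lib.Helper30.Fi24.F306936ChkL55
import Cfsg.Agent.Lib.Helper30.Fi24.F306936ChkL56
import Cfsg.Agent.Lib.Helper30.Fi24.F306936ChkL57
import Cfsg.Agent.Lib.Helper30.Fi24.F306936ChkL58
import Cfsg.Agent.Lib.Helper30.Fi24.F306936ChkL59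
import Cfsg.Agent.Lib.Helper30.Fi24.F306936ChkL60
import Cfsg.Agent.Lib.Helper30.Fi24.F306936ChkL61
import Cfsg.Agent.Lib.Helper30.Fi24.F306936ChkL62
import Cfsg.Agent.Lib.Helper30.Fi24.F306936ChkLP
import Cfsg.Agent.Lib.Helper30.Fi24.F306936Data

set_option autoImplicit false
set_option maxRecDepth 100000

namespace Cfsg.Agent.Lib.Helper30.Fi24.F306936

open Cfsg.Agent.Lib.Helper28

theorem lsub_ok : ∀ E ∈ Q.subE, ptrace Q.L.pt (E.word Q.P.inv) 0 = 1 := by decide +kernel
theorem point_all : ∀ c < L.n, L.checkPoint c = true := by
  intro c hc
  have hc' : c < 306936 := hc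
  by_cases h0 : c < 10000
  · exact allRange_iff.mp point_0 c (by omega) (by omega)
  by_cases h1 : c < 20000
  · exact allRange_iff.mp point_1 c (by omega) (by omega)
  clear h0
  by_cases h2 : c < 30000
  · exact allRange_iff.mp point_2 c (by omega) (by omega)
  clear h1
  by_cases h3 : c < 40000
  · exact allRange_iff.mp point_3 c (by omega) (by omega)
  clear h2
  by_cases h4 : c < 50000
  · exact allRange_iff.mp point_4 c (by omega) (by omega)
  clear h3
  by_cases h5 : c < 60000
  · exact allRange_iff.mp point_5 c (by omega) (by omega)
  clear h4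
  by_cases h6 : c < 70000
  · exact allRange_iff.mp point_6 c (by omega) (by omega)
  clear h5
  by_cases h7 : c < 80000
  · exact allRange_iff.mp point_7 c (by omega) (by omega)
  clear h6
  by_cases h8 : c < 90000
  · exact allRange_iff.mp point_8 c (by omega) (by omega)
  clear h7
  by_cases h9 : c < 100000
  · exact allRange_iff.mp point_9 c (by omega) (by omega)
  clear h8
  by_cases h10 : c < 110000
  · exact allRange_iff.mp point_10 c (by omega) (by omega)
  clear h9
  by_cases h11 : c < 120000
  · exact allRange_iff.mp point_11 c (by omega) (by omega)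
  clear h10
  by_cases h12 : c < 130000
  · exact allRange_iff.mp point_12 c (by omega) (by omega)
  clear h11
  by_cases h13 : c < 140000
  · exact allRange_iff.mp point_13 c (by omega) (by omega)
  clear h12
  by_cases h14 : c < 150000
  · exact allRange_iff.mp point_14 c (by omega) (by omega)
  clear h13
  by_cases h15 : c < 160000
  · exact allRange_iff.mp point_15 c (by omega) (by omega)
  clear h14
  by_cases h16 : c < 170000
  · exact allRange_iff.mp point_16 c (by omega) (by omega)
  clear h15
  by_cases h17 : c < 180000
  · exact allRange_iff.mp point_17 c (by omega) (by omega)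
  clear h16
  by_cases h18 : c < 190000
  · exact allRange_iff.mp point_18 c (by omega) (by omega)
  clear h17
  by_cases h19 : c < 200000
  · exact allRange_iff.mp point_19 c (by omega) (by omega)
  clear h18
  by_cases h20 : c < 210000
  · exact allRange_iff.mp point_20 c (by omega) (by omega)
  clear h19
  by_cases h21 : c < 220000
  · exact allRange_iff.mp point_21 c (by omega) (by omega)
  clear h20
  by_cases h22 : c < 230000
  · exact allRange_iff.mp point_22 c (by omega) (by omega)
  clear h21
  by_cases h23 : c < 240000
  · exact allRange_iff.mp point_23 c (by omega) (by omega)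
  clear h22
  by_cases h24 : c < 250000
  · exact allRange_iff.mp point_24 c (by omega) (by omega)
  clear h23
  by_cases h25 : c < 260000
  · exact allRange_iff.mp point_25 c (by omega) (by omega)
  clear h24
  by_cases h26 : c < 270000
  · exact allRange_iff.mp point_26 c (by omega) (by omega)
  clear h25
  by_cases h27 : c < 280000
  · exact allRange_iff.mp point_27 c (by omega) (by omega)
  clear h26
  by_cases h28 : c < 290000
  · exact allRange_iff.mp point_28 c (by omega) (by omega)
  clear h27
  by_cases h29 : c < 300000
  · exact allRange_iff.mp point_29 c (by omega) (by omega)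
  clear h28
  by_cases h30 : c < 306936
  · exact allRange_iff.mp point_30 c (by omega) (by omega)
  clear h29
  omega
theorem tree_all : ∀ c < L.n, L.checkTree c = true := by
  intro c hc
  have hc' : c < 306936 := hc
  by_cases h0 : c < 80000
  · exact allRange_iff.mp tree_0 c (by omega) (by omega)
  by_cases h1 : c < 160000
  · exact allRange_iff.mp tree_1 c (by omega) (by omega)
  clear h0
  by_cases h2 : c < 240000
  · exact allRange_iff.mp tree_2 c (by omega) (by omega)
  clear h1
  by_cases h3 : c < 306936
  · exact allRange_iff.mp tree_3 c (by omega) (by omega)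
  clear h2
  omega
theorem lrel_all : ∀ w ∈ Cfsg.Agent.Lib.Helper30.Fi24.Fi24PD.pd.words, ∀ c < L.n, L.checkRel w c = true := by
  intro w hw c hc
  rw [words_eq] at hw
  have hc' : c < 306936 := hc
  by_cases h0 : c < 490
  · exact allList_iff.mp (allRange_iff.mp lrel_0 c (by omega) (by omega)) w hw
  by_cases h1 : c < 980
  · exact allList_iff.mp (allRange_iff.mp lrel_1 c (by omega) (by omega)) w hw
  clear h0
  by_cases h2 : c < 1470
  · exact allList_iff.mp (allRange_iff.mp lrel_2 c (by omega) (by omega)) w hw
  clear h1
  by_cases h3 : c < 1960
  · exact allList_iff.mp (allRange_iff.mp lrel_3 c (by omega) (by omega)) w hw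
  clear h2
  by_cases h4 : c < 2450
  · exact allList_iff.mp (allRange_iff.mp lrel_4 c (by omega) (by omega)) w hw
  clear h3
  by_cases h5 : c < 2940
  · exact allList_iff.mp (allRange_iff.mp lrel_5 c (by omega) (by omega)) w hw
  clear h4
  by_cases h6 : c < 3430
  · exact allList_iff.mp (allRange_iff.mp lrel_6 c (by omega) (by omega)) w hw
  clear h5
  by_cases h7 : c < 3920
  · exact allList_iff.mp (allRange_iff.mp lrel_7 c (by omega) (by omega)) w hw
  clear h6
  by_cases h8 : c < 4410
  · exact allList_iff.mp (allRange_iff.mp lrel_8 c (by omega) (by omega)) w hw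
  clear h7
  by_cases h9 : c < 4900
  · exact allList_iff.mp (allRange_iff.mp lrel_9 c (by omega) (by omega)) w hw
  clear h8
  by_cases h10 : c < 5390
  · exact allList_iff.mp (allRange_iff.mp lrel_10 c (by omega) (by omega)) w hw
  clear h9
  by_cases h11 : c < 5880
  · exact allList_iff.mp (allRange_iff.mp lrel_11 c (by omega) (by omega)) w hw
  clear h10
  by_cases h12 : c < 6370
  · exact allList_iff.mp (allRange_iff.mp lrel_12 c (by omega) (by omega)) w hw
  clear h11
  by_cases h13 : c < 6860
  · exact allList_iff.mp (allRange_iff.mp lrel_13 c (by omega) (by omega)) w hw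
  clear h12
  by_cases h14 : c < 7350
  · exact allList_iff.mp (allRange_iff.mp lrel_14 c (by omega) (by omega)) w hw
  clear h13
  by_cases h15 : c < 7840
  · exact allList_iff.mp (allRange_iff.mp lrel_15 c (by omega) (by omega)) w hw
  clear h14
  by_cases h16 : c < 8330
  · exact allList_iff.mp (allRange_iff.mp lrel_16 c (by omega) (by omega)) w hw
  clear h15
  by_cases h17 : c < 8820
  · exact allList_iff.mp (allRange_iff.mp lrel_17 c (by omega) (by omega)) w hw
  clear h16
  by_cases h18 : c < 9310
  · exact allList_iff.mp (allRange_iff.mp lrel_18 c (by omega) (by omega)) w hw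
  clear h17
  by_cases h19 : c < 9800
  · exact allList_iff.mp (allRange_iff.mp lrel_19 c (by omega) (by omega)) w hw
  clear h18
  by_cases h20 : c < 10290
  · exact allList_iff.mp (allRange_iff.mp lrel_20 c (by omega) (by omega)) w hw
  clear h19
  by_cases h21 : c < 10780
  · exact allList_iff.mp (allRange_iff.mp lrel_21 c (by omega) (by omega)) w hw
  clear h20
  by_cases h22 : c < 11270
  · exact allList_iff.mp (allRange_iff.mp lrel_22 c (by omega) (by omega)) w hw
  clear h21
  by_cases h23 : c < 11760
  · exact allList_iff.mp (allRange_iff.mp lrel_23 c (by omega) (by omega)) w hw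
  clear h22
  by_cases h24 : c < 12250
  · exact allList_iff.mp (allRange_iff.mp lrel_24 c (by omega) (by omega)) w hw
  clear h23
  by_cases h25 : c < 12740
  · exact allList_iff.mp (allRange_iff.mp lrel_25 c (by omega) (by omega)) w hw
  clear h24
  by_cases h26 : c < 13230
  · exact allList_iff.mp (allRange_iff.mp lrel_26 c (by omega) (by omega)) w hw
  clear h25
  by_cases h27 : c < 13720
  · exact allList_iff.mp (allRange_iff.mp lrel_27 c (by omega) (by omega)) w hw
  clear h26
  by_cases h28 : c < 14210
  · exact allList_iff.mp (allRange_iff.mp lrel_28 c (by omega) (by omega)) w hw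
  clear h27
  by_cases h29 : c < 14700
  · exact allList_iff.mp (allRange_iff.mp lrel_29 c (by omega) (by omega)) w hw
  clear h28
  by_cases h30 : c < 15190
  · exact allList_iff.mp (allRange_iff.mp lrel_30 c (by omega) (by omega)) w hw
  clear h29
  by_cases h31 : c < 15680
  · exact allList_iff.mp (allRange_iff.mp lrel_31 c (by omega) (by omega)) w hw
  clear h30
  by_cases h32 : c < 16170
  · exact allList_iff.mp (allRange_iff.mp lrel_32 c (by omega) (by omega)) w hw
  clear h31
  by_cases h33 : c < 16660
  · exact allList_iff.mp (allRange_iff.mp lrel_33 c (by omega) (by omega)) w hw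
  clear h32
  by_cases h34 : c < 17150
  · exact allList_iff.mp (allRange_iff.mp lrel_34 c (by omega) (by omega)) w hw
  clear h33
  by_cases h35 : c < 17640
  · exact allList_iff.mp (allRange_iff.mp lrel_35 c (by omega) (by omega)) w hw
  clear h34
  by_cases h36 : c < 18130
  · exact allList_iff.mp (allRange_iff.mp lrel_36 c (by omega) (by omega)) w hw
  clear h35
  by_cases h37 : c < 18620
  · exact allList_iff.mp (allRange_iff.mp lrel_37 c (by omega) (by omega)) w hw
  clear h36
  by_cases h38 : c < 19110
  · exact allList_iff.mp (allRange_iff.mp lrel_38 c (by omega) (by omega)) w hw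
  clear h37
  by_cases h39 : c < 19600
  · exact allList_iff.mp (allRange_iff.mp lrel_39 c (by omega) (by omega)) w hw
  clear h38
  by_cases h40 : c < 20090
  · exact allList_iff.mp (allRange_iff.mp lrel_40 c (by omega) (by omega)) w hw
  clear h39
  by_cases h41 : c < 20580
  · exact allList_iff.mp (allRange_iff.mp lrel_41 c (by omega) (by omega)) w hw
  clear h40
  by_cases h42 : c < 21070
  · exact allList_iff.mp (allRange_iff.mp lrel_42 c (by omega) (by omega)) w hw
  clear h41
  by_cases h43 : c < 21560
  · exact allList_iff.mp (allRange_iff.mp lrel_43 c (by omega) (by omega)) w hw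
  clear h42
  by_cases h44 : c < 22050
  · exact allList_iff.mp (allRange_iff.mp lrel_44 c (by omega) (by omega)) w hw
  clear h43
  by_cases h45 : c < 22540
  · exact allList_iff.mp (allRange_iff.mp lrel_45 c (by omega) (by omega)) w hw
  clear h44
  by_cases h46 : c < 23030
  · exact allList_iff.mp (allRange_iff.mp lrel_46 c (by omega) (by omega)) w hw
  clear h45
  by_cases h47 : c < 23520
  · exact allList_iff.mp (allRange_iff.mp lrel_47 c (by omega) (by omega)) w hw
  clear h46
  by_cases h48 : c < 24010
  · exact allList_iff.mp (allRange_iff.mp lrel_48 c (by omega) (by omega)) w hw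
  clear h47
  by_cases h49 : c < 24500
  · exact allList_iff.mp (allRange_iff.mp lrel_49 c (by omega) (by omega)) w hw
  clear h48
  by_cases h50 : c < 24990
  · exact allList_iff.mp (allRange_iff.mp lrel_50 c (by omega) (by omega)) w hw
  clear h49
  by_cases h51 : c < 25480
  · exact allList_iff.mp (allRange_iff.mp lrel_51 c (by omega) (by omega)) w hw
  clear h50
  by_cases h52 : c < 25970
  · exact allList_iff.mp (allRange_iff.mp lrel_52 c (by omega) (by omega)) w hw
  clear h51
  by_cases h53 : c < 26460
  · exact allList_iff.mp (allRange_iff.mp lrel_53 c (by omega) (by omega)) w hw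
  clear h52
  by_cases h54 : c < 26950
  · exact allList_iff.mp (allRange_iff.mp lrel_54 c (by omega) (by omega)) w hw
  clear h53
  by_cases h55 : c < 27440
  · exact allList_iff.mp (allRange_iff.mp lrel_55 c (by omega) (by omega)) w hw
  clear h54
  by_cases h56 : c < 27930
  · exact allList_iff.mp (allRange_iff.mp lrel_56 c (by omega) (by omega)) w hw
  clear h55
  by_cases h57 : c < 28420
  · exact allList_iff.mp (allRange_iff.mp lrel_57 c (by omega) (by omega)) w hw
  clear h56
  by_cases h58 : c < 28910
  · exact allList_iff.mp (allRange_iff.mp lrel_58 c (by omega) (by omega)) w hw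
  clear h57
  by_cases h59 : c < 29400
  · exact allList_iff.mp (allRange_iff.mp lrel_59 c (by omega) (by omega)) w hw
  clear h58
  by_cases h60 : c < 29890
  · exact allList_iff.mp (allRange_iff.mp lrel_60 c (by omega) (by omega)) w hw
  clear h59
  by_cases h61 : c < 30380
  · exact allList_iff.mp (allRange_iff.mp lrel_61 c (by omega) (by omega)) w hw
  clear h60
  by_cases h62 : c < 30870
  · exact allList_iff.mp (allRange_iff.mp lrel_62 c (by omega) (by omega)) w hw
  clear h61
  by_cases h63 : c < 31360
  · exact allList_iff.mp (allRange_iff.mp lrel_63 c (by omega) (by omega)) w hw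
  clear h62
  by_cases h64 : c < 31850
  · exact allList_iff.mp (allRange_iff.mp lrel_64 c (by omega) (by omega)) w hw
  clear h63
  by_cases h65 : c < 32340
  · exact allList_iff.mp (allRange_iff.mp lrel_65 c (by omega) (by omega)) w hw
  clear h64
  by_cases h66 : c < 32830
  · exact allList_iff.mp (allRange_iff.mp lrel_66 c (by omega) (by omega)) w hw
  clear h65
  by_cases h67 : c < 33320
  · exact allList_iff.mp (allRange_iff.mp lrel_67 c (by omega) (by omega)) w hw
  clear h66
  by_cases h68 : c < 33810
  · exact allList_iff.mp (allRange_iff.mp lrel_68 c (by omega) (by omega)) w hw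
  clear h67
  by_cases h69 : c < 34300
  · exact allList_iff.mp (allRange_iff.mp lrel_69 c (by omega) (by omega)) w hw
  clear h68
  by_cases h70 : c < 34790
  · exact allList_iff.mp (allRange_iff.mp lrel_70 c (by omega) (by omega)) w hw
  clear h69
  by_cases h71 : c < 35280
  · exact allList_iff.mp (allRange_iff.mp lrel_71 c (by omega) (by omega)) w hw
  clear h70
  by_cases h72 : c < 35770
  · exact allList_iff.mp (allRange_iff.mp lrel_72 c (by omega) (by omega)) w hw
  clear h71
  by_cases h73 : c < 36260
  · exact allList_iff.mp (allRange_iff.mp lrel_73 c (by omega) (by omega)) w hw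
  clear h72
  by_cases h74 : c < 36750
  · exact allList_iff.mp (allRange_iff.mp lrel_74 c (by omega) (by omega)) w hw
  clear h73
  by_cases h75 : c < 37240
  · exact allList_iff.mp (allRange_iff.mp lrel_75 c (by omega) (by omega)) w hw
  clear h74
  by_cases h76 : c < 37730
  · exact allList_iff.mp (allRange_iff.mp lrel_76 c (by omega) (by omega)) w hw
  clear h75
  by_cases h77 : c < 38220
  · exact allList_iff.mp (allRange_iff.mp lrel_77 c (by omega) (by omega)) w hw
  clear h76
  by_cases h78 : c < 38710
  · exact allList_iff.mp (allRange_iff.mp lrel_78 c (by omega) (by omega)) w hw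
  clear h77
  by_cases h79 : c < 39200
  · exact allList_iff.mp (allRange_iff.mp lrel_79 c (by omega) (by omega)) w hw
  clear h78
  by_cases h80 : c < 39690
  · exact allList_iff.mp (allRange_iff.mp lrel_80 c (by omega) (by omega)) w hw
  clear h79
  by_cases h81 : c < 40180
  · exact allList_iff.mp (allRange_iff.mp lrel_81 c (by omega) (by omega)) w hw
  clear h80
  by_cases h82 : c < 40670
  · exact allList_iff.mp (allRange_iff.mp lrel_82 c (by omega) (by omega)) w hw
  clear h81
  by_cases h83 : c < 41160
  · exact allList_iff.mp (allRange_iff.mp lrel_83 c (by omega) (by omega)) w hw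
  clear h82
  by_cases h84 : c < 41650
  · exact allList_iff.mp (allRange_iff.mp lrel_84 c (by omega) (by omega)) w hw
  clear h83
  by_cases h85 : c < 42140
  · exact allList_iff.mp (allRange_iff.mp lrel_85 c (by omega) (by omega)) w hw
  clear h84
  by_cases h86 : c < 42630
  · exact allList_iff.mp (allRange_iff.mp lrel_86 c (by omega) (by omega)) w hw
  clear h85
  by_cases h87 : c < 43120
  · exact allList_iff.mp (allRange_iff.mp lrel_87 c (by omega) (by omega)) w hw
  clear h86
  by_cases h88 : c < 43610
  · exact allList_iff.mp (allRange_iff.mp lrel_88 c (by omega) (by omega)) w hw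
  clear h87
  by_cases h89 : c < 44100
  · exact allList_iff.mp (allRange_iff.mp lrel_89 c (by omega) (by omega)) w hw
  clear h88
  by_cases h90 : c < 44590
  · exact allList_iff.mp (allRange_iff.mp lrel_90 c (by omega) (by omega)) w hw
  clear h89
  by_cases h91 : c < 45080
  · exact allList_iff.mp (allRange_iff.mp lrel_91 c (by omega) (by omega)) w hw
  clear h90
  by_cases h92 : c < 45570
  · exact allList_iff.mp (allRange_iff.mp lrel_92 c (by omega) (by omega)) w hw
  clear h91
  by_cases h93 : c < 46060
  · exact allList_iff.mp (allRange_iff.mp lrel_93 c (by omega) (by omega)) w hw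
  clear h92
  by_cases h94 : c < 46550
  · exact allList_iff.mp (allRange_iff.mp lrel_94 c (by omega) (by omega)) w hw
  clear h93
  by_cases h95 : c < 47040
  · exact allList_iff.mp (allRange_iff.mp lrel_95 c (by omega) (by omega)) w hw
  clear h94
  by_cases h96 : c < 47530
  · exact allList_iff.mp (allRange_iff.mp lrel_96 c (by omega) (by omega)) w hw
  clear h95
  by_cases h97 : c < 48020
  · exact allList_iff.mp (allRange_iff.mp lrel_97 c (by omega) (by omega)) w hw
  clear h96
  by_cases h98 : c < 48510
  · exact allList_iff.mp (allRange_iff.mp lrel_98 c (by omega) (by omega)) w hw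
  clear h97
  by_cases h99 : c < 49000
  · exact allList_iff.mp (allRange_iff.mp lrel_99 c (by omega) (by omega)) w hw
  clear h98
  by_cases h100 : c < 49490
  · exact allList_iff.mp (allRange_iff.mp lrel_100 c (by omega) (by omega)) w hw
  clear h99
  by_cases h101 : c < 49980
  · exact allList_iff.mp (allRange_iff.mp lrel_101 c (by omega) (by omega)) w hw
  clear h100
  by_cases h102 : c < 50470
  · exact allList_iff.mp (allRange_iff.mp lrel_102 c (by omega) (by omega)) w hw
  clear h101
  by_cases h103 : c < 50960
  · exact allList_iff.mp (allRange_iff.mp lrel_103 c (by omega) (by omega)) w hw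
  clear h102
  by_cases h104 : c < 51450
  · exact allList_iff.mp (allRange_iff.mp lrel_104 c (by omega) (by omega)) w hw
  clear h103
  by_cases h105 : c < 51940
  · exact allList_iff.mp (allRange_iff.mp lrel_105 c (by omega) (by omega)) w hw
  clear h104
  by_cases h106 : c < 52430
  · exact allList_iff.mp (allRange_iff.mp lrel_106 c (by omega) (by omega)) w hw
  clear h105
  by_cases h107 : c < 52920
  · exact allList_iff.mp (allRange_iff.mp lrel_107 c (by omega) (by omega)) w hw
  clear h106
  by_cases h108 : c < 53410
  · exact allList_iff.mp (allRange_iff.mp lrel_108 c (by omega) (by omega)) w hw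
  clear h107
  by_cases h109 : c < 53900
  · exact allList_iff.mp (allRange_iff.mp lrel_109 c (by omega) (by omega)) w hw
  clear h108
  by_cases h110 : c < 54390
  · exact allList_iff.mp (allRange_iff.mp lrel_110 c (by omega) (by omega)) w hw
  clear h109
  by_cases h111 : c < 54880
  · exact allList_iff.mp (allRange_iff.mp lrel_111 c (by omega) (by omega)) w hw
  clear h110
  by_cases h112 : c < 55370
  · exact allList_iff.mp (allRange_iff.mp lrel_112 c (by omega) (by omega)) w hw
  clear h111
  by_cases h113 : c < 55860
  · exact allList_iff.mp (allRange_iff.mp lrel_113 c (by omega) (by omega)) w hw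
  clear h112
  by_cases h114 : c < 56350
  · exact allList_iff.mp (allRange_iff.mp lrel_114 c (by omega) (by omega)) w hw
  clear h113
  by_cases h115 : c < 56840
  · exact allList_iff.mp (allRange_iff.mp lrel_115 c (by omega) (by omega)) w hw
  clear h114
  by_cases h116 : c < 57330
  · exact allList_iff.mp (allRange_iff.mp lrel_116 c (by omega) (by omega)) w hw
  clear h115
  by_cases h117 : c < 57820
  · exact allList_iff.mp (allRange_iff.mp lrel_117 c (by omega) (by omega)) w hw
  clear h116
  by_cases h118 : c < 58310
  · exact allList_iff.mp (allRange_iff.mp lrel_118 c (by omega) (by omega)) w hw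
  clear h117
  by_cases h119 : c < 58800
  · exact allList_iff.mp (allRange_iff.mp lrel_119 c (by omega) (by omega)) w hw
  clear h118
  by_cases h120 : c < 59290
  · exact allList_iff.mp (allRange_iff.mp lrel_120 c (by omega) (by omega)) w hw
  clear h119
  by_cases h121 : c < 59780
  · exact allList_iff.mp (allRange_iff.mp lrel_121 c (by omega) (by omega)) w hw
  clear h120
  by_cases h122 : c < 60270
  · exact allList_iff.mp (allRange_iff.mp lrel_122 c (by omega) (by omega)) w hw
  clear h121
  by_cases h123 : c < 60760
  · exact allList_iff.mp (allRange_iff.mp lrel_123 c (by omega) (by omega)) w hw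
  clear h122
  by_cases h124 : c < 61250
  · exact allList_iff.mp (allRange_iff.mp lrel_124 c (by omega) (by omega)) w hw
  clear h123
  by_cases h125 : c < 61740
  · exact allList_iff.mp (allRange_iff.mp lrel_125 c (by omega) (by omega)) w hw
  clear h124
  by_cases h126 : c < 62230
  · exact allList_iff.mp (allRange_iff.mp lrel_126 c (by omega) (by omega)) w hw
  clear h125
  by_cases h127 : c < 62720
  · exact allList_iff.mp (allRange_iff.mp lrel_127 c (by omega) (by omega)) w hw
  clear h126
  by_cases h128 : c < 63210
  · exact allList_iff.mp (allRange_iff.mp lrel_128 c (by omega) (by omega)) w hw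
  clear h127
  by_cases h129 : c < 63700
  · exact allList_iff.mp (allRange_iff.mp lrel_129 c (by omega) (by omega)) w hw
  clear h128
  by_cases h130 : c < 64190
  · exact allList_iff.mp (allRange_iff.mp lrel_130 c (by omega) (by omega)) w hw
  clear h129
  by_cases h131 : c < 64680
  · exact allList_iff.mp (allRange_iff.mp lrel_131 c (by omega) (by omega)) w hw
  clear h130
  by_cases h132 : c < 65170
  · exact allList_iff.mp (allRange_iff.mp lrel_132 c (by omega) (by omega)) w hw
  clear h131
  by_cases h133 : c < 65660
  · exact allList_iff.mp (allRange_iff.mp lrel_133 c (by omega) (by omega)) w hw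
  clear h132
  by_cases h134 : c < 66150
  · exact allList_iff.mp (allRange_iff.mp lrel_134 c (by omega) (by omega)) w hw
  clear h133
  by_cases h135 : c < 66640
  · exact allList_iff.mp (allRange_iff.mp lrel_135 c (by omega) (by omega)) w hw
  clear h134
  by_cases h136 : c < 67130
  · exact allList_iff.mp (allRange_iff.mp lrel_136 c (by omega) (by omega)) w hw
  clear h135
  by_cases h137 : c < 67620
  · exact allList_iff.mp (allRange_iff.mp lrel_137 c (by omega) (by omega)) w hw
  clear h136
  by_cases h138 : c < 68110
  · exact allList_iff.mp (allRange_iff.mp lrel_138 c (by omega) (by omega)) w hw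
  clear h137
  by_cases h139 : c < 68600
  · exact allList_iff.mp (allRange_iff.mp lrel_139 c (by omega) (by omega)) w hw
  clear h138
  by_cases h140 : c < 69090
  · exact allList_iff.mp (allRange_iff.mp lrel_140 c (by omega) (by omega)) w hw
  clear h139
  by_cases h141 : c < 69580
  · exact allList_iff.mp (allRange_iff.mp lrel_141 c (by omega) (by omega)) w hw
  clear h140
  by_cases h142 : c < 70070
  · exact allList_iff.mp (allRange_iff.mp lrel_142 c (by omega) (by omega)) w hw
  clear h141
  by_cases h143 : c < 70560
  · exact allList_iff.mp (allRange_iff.mp lrel_143 c (by omega) (by omega)) w hw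
  clear h142
  by_cases h144 : c < 71050
  · exact allList_iff.mp (allRange_iff.mp lrel_144 c (by omega) (by omega)) w hw
  clear h143
  by_cases h145 : c < 71540
  · exact allList_iff.mp (allRange_iff.mp lrel_145 c (by omega) (by omega)) w hw
  clear h144
  by_cases h146 : c < 72030
  · exact allList_iff.mp (allRange_iff.mp lrel_146 c (by omega) (by omega)) w hw
  clear h145
  by_cases h147 : c < 72520
  · exact allList_iff.mp (allRange_iff.mp lrel_147 c (by omega) (by omega)) w hw
  clear h146
  by_cases h148 : c < 73010
  · exact allList_iff.mp (allRange_iff.mp lrel_148 c (by omega) (by omega)) w hw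
  clear h147
  by_cases h149 : c < 73500
  · exact allList_iff.mp (allRange_iff.mp lrel_149 c (by omega) (by omega)) w hw
  clear h148
  by_cases h150 : c < 73990
  · exact allList_iff.mp (allRange_iff.mp lrel_150 c (by omega) (by omega)) w hw
  clear h149
  by_cases h151 : c < 74480
  · exact allList_iff.mp (allRange_iff.mp lrel_151 c (by omega) (by omega)) w hw
  clear h150
  by_cases h152 : c < 74970
  · exact allList_iff.mp (allRange_iff.mp lrel_152 c (by omega) (by omega)) w hw
  clear h151
  by_cases h153 : c < 75460
  · exact allList_iff.mp (allRange_iff.mp lrel_153 c (by omega) (by omega)) w hw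
  clear h152
  by_cases h154 : c < 75950
  · exact allList_iff.mp (allRange_iff.mp lrel_154 c (by omega) (by omega)) w hw
  clear h153
  by_cases h155 : c < 76440
  · exact allList_iff.mp (allRange_iff.mp lrel_155 c (by omega) (by omega)) w hw
  clear h154
  by_cases h156 : c < 76930
  · exact allList_iff.mp (allRange_iff.mp lrel_156 c (by omega) (by omega)) w hw
  clear h155
  by_cases h157 : c < 77420
  · exact allList_iff.mp (allRange_iff.mp lrel_157 c (by omega) (by omega)) w hw
  clear h156
  by_cases h158 : c < 77910
  · exact allList_iff.mp (allRange_iff.mp lrel_158 c (by omega) (by omega)) w hw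
  clear h157
  by_cases h159 : c < 78400
  · exact allList_iff.mp (allRange_iff.mp lrel_159 c (by omega) (by omega)) w hw
  clear h158
  by_cases h160 : c < 78890
  · exact allList_iff.mp (allRange_iff.mp lrel_160 c (by omega) (by omega)) w hw
  clear h159
  by_cases h161 : c < 79380
  · exact allList_iff.mp (allRange_iff.mp lrel_161 c (by omega) (by omega)) w hw
  clear h160
  by_cases h162 : c < 79870
  · exact allList_iff.mp (allRange_iff.mp lrel_162 c (by omega) (by omega)) w hw
  clear h161
  by_cases h163 : c < 80360
  · exact allList_iff.mp (allRange_iff.mp lrel_163 c (by omega) (by omega)) w hw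
  clear h162
  by_cases h164 : c < 80850
  · exact allList_iff.mp (allRange_iff.mp lrel_164 c (by omega) (by omega)) w hw
  clear h163
  by_cases h165 : c < 81340
  · exact allList_iff.mp (allRange_iff.mp lrel_165 c (by omega) (by omega)) w hw
  clear h164
  by_cases h166 : c < 81830
  · exact allList_iff.mp (allRange_iff.mp lrel_166 c (by omega) (by omega)) w hw
  clear h165
  by_cases h167 : c < 82320
  · exact allList_iff.mp (allRange_iff.mp lrel_167 c (by omega) (by omega)) w hw
  clear h166
  by_cases h168 : c < 82810
  · exact allList_iff.mp (allRange_iff.mp lrel_168 c (by omega) (by omega)) w hw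
  clear h167
  by_cases h169 : c < 83300
  · exact allList_iff.mp (allRange_iff.mp lrel_169 c (by omega) (by omega)) w hw
  clear h168
  by_cases h170 : c < 83790
  · exact allList_iff.mp (allRange_iff.mp lrel_170 c (by omega) (by omega)) w hw
  clear h169
  by_cases h171 : c < 84280
  · exact allList_iff.mp (allRange_iff.mp lrel_171 c (by omega) (by omega)) w hw
  clear h170
  by_cases h172 : c < 84770
  · exact allList_iff.mp (allRange_iff.mp lrel_172 c (by omega) (by omega)) w hw
  clear h171
  by_cases h173 : c < 85260
  · exact allList_iff.mp (allRange_iff.mp lrel_173 c (by omega) (by omega)) w hw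
  clear h172
  by_cases h174 : c < 85750
  · exact allList_iff.mp (allRange_iff.mp lrel_174 c (by omega) (by omega)) w hw
  clear h173
  by_cases h175 : c < 86240
  · exact allList_iff.mp (allRange_iff.mp lrel_175 c (by omega) (by omega)) w hw
  clear h174
  by_cases h176 : c < 86730
  · exact allList_iff.mp (allRange_iff.mp lrel_176 c (by omega) (by omega)) w hw
  clear h175
  by_cases h177 : c < 87220
  · exact allList_iff.mp (allRange_iff.mp lrel_177 c (by omega) (by omega)) w hw
  clear h176
  by_cases h178 : c < 87710
  · exact allList_iff.mp (allRange_iff.mp lrel_178 c (by omega) (by omega)) w hw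
  clear h177
  by_cases h179 : c < 88200
  · exact allList_iff.mp (allRange_iff.mp lrel_179 c (by omega) (by omega)) w hw
  clear h178
  by_cases h180 : c < 88690
  · exact allList_iff.mp (allRange_iff.mp lrel_180 c (by omega) (by omega)) w hw
  clear h179
  by_cases h181 : c < 89180
  · exact allList_iff.mp (allRange_iff.mp lrel_181 c (by omega) (by omega)) w hw
  clear h180
  by_cases h182 : c < 89670
  · exact allList_iff.mp (allRange_iff.mp lrel_182 c (by omega) (by omega)) w hw
  clear h181
  by_cases h183 : c < 90160
  · exact allList_iff.mp (allRange_iff.mp lrel_183 c (by omega) (by omega)) w hw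
  clear h182
  by_cases h184 : c < 90650
  · exact allList_iff.mp (allRange_iff.mp lrel_184 c (by omega) (by omega)) w hw
  clear h183
  by_cases h185 : c < 91140
  · exact allList_iff.mp (allRange_iff.mp lrel_185 c (by omega) (by omega)) w hw
  clear h184
  by_cases h186 : c < 91630
  · exact allList_iff.mp (allRange_iff.mp lrel_186 c (by omega) (by omega)) w hw
  clear h185
  by_cases h187 : c < 92120
  · exact allList_iff.mp (allRange_iff.mp lrel_187 c (by omega) (by omega)) w hw
  clear h186
  by_cases h188 : c < 92610
  · exact allList_iff.mp (allRange_iff.mp lrel_188 c (by omega) (by omega)) w hw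
  clear h187
  by_cases h189 : c < 93100
  · exact allList_iff.mp (allRange_iff.mp lrel_189 c (by omega) (by omega)) w hw
  clear h188
  by_cases h190 : c < 93590
  · exact allList_iff.mp (allRange_iff.mp lrel_190 c (by omega) (by omega)) w hw
  clear h189
  by_cases h191 : c < 94080
  · exact allList_iff.mp (allRange_iff.mp lrel_191 c (by omega) (by omega)) w hw
  clear h190
  by_cases h192 : c < 94570
  · exact allList_iff.mp (allRange_iff.mp lrel_192 c (by omega) (by omega)) w hw
  clear h191
  by_cases h193 : c < 95060
  · exact allList_iff.mp (allRange_iff.mp lrel_193 c (by omega) (by omega)) w hw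
  clear h192
  by_cases h194 : c < 95550
  · exact allList_iff.mp (allRange_iff.mp lrel_194 c (by omega) (by omega)) w hw
  clear h193
  by_cases h195 : c < 96040
  · exact allList_iff.mp (allRange_iff.mp lrel_195 c (by omega) (by omega)) w hw
  clear h194
  by_cases h196 : c < 96530
  · exact allList_iff.mp (allRange_iff.mp lrel_196 c (by omega) (by omega)) w hw
  clear h195
  by_cases h197 : c < 97020
  · exact allList_iff.mp (allRange_iff.mp lrel_197 c (by omega) (by omega)) w hw
  clear h196
  by_cases h198 : c < 97510
  · exact allList_iff.mp (allRange_iff.mp lrel_198 c (by omega) (by omega)) w hw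
  clear h197
  by_cases h199 : c < 98000
  · exact allList_iff.mp (allRange_iff.mp lrel_199 c (by omega) (by omega)) w hw
  clear h198
  by_cases h200 : c < 98490
  · exact allList_iff.mp (allRange_iff.mp lrel_200 c (by omega) (by omega)) w hw
  clear h199
  by_cases h201 : c < 98980
  · exact allList_iff.mp (allRange_iff.mp lrel_201 c (by omega) (by omega)) w hw
  clear h200
  by_cases h202 : c < 99470
  · exact allList_iff.mp (allRange_iff.mp lrel_202 c (by omega) (by omega)) w hw
  clear h201
  by_cases h203 : c < 99960
  · exact allList_iff.mp (allRange_iff.mp lrel_203 c (by omega) (by omega)) w hw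
  clear h202
  by_cases h204 : c < 100450
  · exact allList_iff.mp (allRange_iff.mp lrel_204 c (by omega) (by omega)) w hw
  clear h203
  by_cases h205 : c < 100940
  · exact allList_iff.mp (allRange_iff.mp lrel_205 c (by omega) (by omega)) w hw
  clear h204
  by_cases h206 : c < 101430
  · exact allList_iff.mp (allRange_iff.mp lrel_206 c (by omega) (by omega)) w hw
  clear h205
  by_cases h207 : c < 101920
  · exact allList_iff.mp (allRange_iff.mp lrel_207 c (by omega) (by omega)) w hw
  clear h206
  by_cases h208 : c < 102410
  · exact allList_iff.mp (allRange_iff.mp lrel_208 c (by omega) (by omega)) w hw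
  clear h207
  by_cases h209 : c < 102900
  · exact allList_iff.mp (allRange_iff.mp lrel_209 c (by omega) (by omega)) w hw
  clear h208
  by_cases h210 : c < 103390
  · exact allList_iff.mp (allRange_iff.mp lrel_210 c (by omega) (by omega)) w hw
  clear h209
  by_cases h211 : c < 103880
  · exact allList_iff.mp (allRange_iff.mp lrel_211 c (by omega) (by omega)) w hw
  clear h210
  by_cases h212 : c < 104370
  · exact allList_iff.mp (allRange_iff.mp lrel_212 c (by omega) (by omega)) w hw
  clear h211
  by_cases h213 : c < 104860
  · exact allList_iff.mp (allRange_iff.mp lrel_213 c (by omega) (by omega)) w hw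
  clear h212
  by_cases h214 : c < 105350
  · exact allList_iff.mp (allRange_iff.mp lrel_214 c (by omega) (by omega)) w hw
  clear h213
  by_cases h215 : c < 105840
  · exact allList_iff.mp (allRange_iff.mp lrel_215 c (by omega) (by omega)) w hw
  clear h214
  by_cases h216 : c < 106330
  · exact allList_iff.mp (allRange_iff.mp lrel_216 c (by omega) (by omega)) w hw
  clear h215
  by_cases h217 : c < 106820
  · exact allList_iff.mp (allRange_iff.mp lrel_217 c (by omega) (by omega)) w hw
  clear h216
  by_cases h218 : c < 107310
  · exact allList_iff.mp (allRange_iff.mp lrel_218 c (by omega) (by omega)) w hw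
  clear h217
  by_cases h219 : c < 107800
  · exact allList_iff.mp (allRange_iff.mp lrel_219 c (by omega) (by omega)) w hw
  clear h218
  by_cases h220 : c < 108290
  · exact allList_iff.mp (allRange_iff.mp lrel_220 c (by omega) (by omega)) w hw
  clear h219
  by_cases h221 : c < 108780
  · exact allList_iff.mp (allRange_iff.mp lrel_221 c (by omega) (by omega)) w hw
  clear h220
  by_cases h222 : c < 109270
  · exact allList_iff.mp (allRange_iff.mp lrel_222 c (by omega) (by omega)) w hw
  clear h221
  by_cases h223 : c < 109760
  · exact allList_iff.mp (allRange_iff.mp lrel_223 c (by omega) (by omega)) w hw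
  clear h222
  by_cases h224 : c < 110250
  · exact allList_iff.mp (allRange_iff.mp lrel_224 c (by omega) (by omega)) w hw
  clear h223
  by_cases h225 : c < 110740
  · exact allList_iff.mp (allRange_iff.mp lrel_225 c (by omega) (by omega)) w hw
  clear h224
  by_cases h226 : c < 111230
  · exact allList_iff.mp (allRange_iff.mp lrel_226 c (by omega) (by omega)) w hw
  clear h225
  by_cases h227 : c < 111720
  · exact allList_iff.mp (allRange_iff.mp lrel_227 c (by omega) (by omega)) w hw
  clear h226
  by_cases h228 : c < 112210
  · exact allList_iff.mp (allRange_iff.mp lrel_228 c (by omega) (by omega)) w hw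
  clear h227
  by_cases h229 : c < 112700
  · exact allList_iff.mp (allRange_iff.mp lrel_229 c (by omega) (by omega)) w hw
  clear h228
  by_cases h230 : c < 113190
  · exact allList_iff.mp (allRange_iff.mp lrel_230 c (by omega) (by omega)) w hw
  clear h229
  by_cases h231 : c < 113680
  · exact allList_iff.mp (allRange_iff.mp lrel_231 c (by omega) (by omega)) w hw
  clear h230
  by_cases h232 : c < 114170
  · exact allList_iff.mp (allRange_iff.mp lrel_232 c (by omega) (by omega)) w hw
  clear h231
  by_cases h233 : c < 114660
  · exact allList_iff.mp (allRange_iff.mp lrel_233 c (by omega) (by omega)) w hw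
  clear h232
  by_cases h234 : c < 115150
  · exact allList_iff.mp (allRange_iff.mp lrel_234 c (by omega) (by omega)) w hw
  clear h233
  by_cases h235 : c < 115640
  · exact allList_iff.mp (allRange_iff.mp lrel_235 c (by omega) (by omega)) w hw
  clear h234
  by_cases h236 : c < 116130
  · exact allList_iff.mp (allRange_iff.mp lrel_236 c (by omega) (by omega)) w hw
  clear h235
  by_cases h237 : c < 116620
  · exact allList_iff.mp (allRange_iff.mp lrel_237 c (by omega) (by omega)) w hw
  clear h236
  by_cases h238 : c < 117110
  · exact allList_iff.mp (allRange_iff.mp lrel_238 c (by omega) (by omega)) w hw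
  clear h237
  by_cases h239 : c < 117600
  · exact allList_iff.mp (allRange_iff.mp lrel_239 c (by omega) (by omega)) w hw
  clear h238
  by_cases h240 : c < 118090
  · exact allList_iff.mp (allRange_iff.mp lrel_240 c (by omega) (by omega)) w hw
  clear h239
  by_cases h241 : c < 118580
  · exact allList_iff.mp (allRange_iff.mp lrel_241 c (by omega) (by omega)) w hw
  clear h240
  by_cases h242 : c < 119070
  · exact allList_iff.mp (allRange_iff.mp lrel_242 c (by omega) (by omega)) w hw
  clear h241
  by_cases h243 : c < 119560
  · exact allList_iff.mp (allRange_iff.mp lrel_243 c (by omega) (by omega)) w hw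
  clear h242
  by_cases h244 : c < 120050
  · exact allList_iff.mp (allRange_iff.mp lrel_244 c (by omega) (by omega)) w hw
  clear h243
  by_cases h245 : c < 120540
  · exact allList_iff.mp (allRange_iff.mp lrel_245 c (by omega) (by omega)) w hw
  clear h244
  by_cases h246 : c < 121030
  · exact allList_iff.mp (allRange_iff.mp lrel_246 c (by omega) (by omega)) w hw
  clear h245
  by_cases h247 : c < 121520
  · exact allList_iff.mp (allRange_iff.mp lrel_247 c (by omega) (by omega)) w hw
  clear h246
  by_cases h248 : c < 122010
  · exact allList_iff.mp (allRange_iff.mp lrel_248 c (by omega) (by omega)) w hw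
  clear h247
  by_cases h249 : c < 122500
  · exact allList_iff.mp (allRange_iff.mp lrel_249 c (by omega) (by omega)) w hw
  clear h248
  by_cases h250 : c < 122990
  · exact allList_iff.mp (allRange_iff.mp lrel_250 c (by omega) (by omega)) w hw
  clear h249
  by_cases h251 : c < 123480
  · exact allList_iff.mp (allRange_iff.mp lrel_251 c (by omega) (by omega)) w hw
  clear h250
  by_cases h252 : c < 123970
  · exact allList_iff.mp (allRange_iff.mp lrel_252 c (by omega) (by omega)) w hw
  clear h251
  by_cases h253 : c < 124460
  · exact allList_iff.mp (allRange_iff.mp lrel_253 c (by omega) (by omega)) w hw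
  clear h252
  by_cases h254 : c < 124950
  · exact allList_iff.mp (allRange_iff.mp lrel_254 c (by omega) (by omega)) w hw
  clear h253
  by_cases h255 : c < 125440
  · exact allList_iff.mp (allRange_iff.mp lrel_255 c (by omega) (by omega)) w hw
  clear h254
  by_cases h256 : c < 125930
  · exact allList_iff.mp (allRange_iff.mp lrel_256 c (by omega) (by omega)) w hw
  clear h255
  by_cases h257 : c < 126420
  · exact allList_iff.mp (allRange_iff.mp lrel_257 c (by omega) (by omega)) w hw
  clear h256
  by_cases h258 : c < 126910
  · exact allList_iff.mp (allRange_iff.mp lrel_258 c (by omega) (by omega)) w hw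
  clear h257
  by_cases h259 : c < 127400
  · exact allList_iff.mp (allRange_iff.mp lrel_259 c (by omega) (by omega)) w hw
  clear h258
  by_cases h260 : c < 127890
  · exact allList_iff.mp (allRange_iff.mp lrel_260 c (by omega) (by omega)) w hw
  clear h259
  by_cases h261 : c < 128380
  · exact allList_iff.mp (allRange_iff.mp lrel_261 c (by omega) (by omega)) w hw
  clear h260
  by_cases h262 : c < 128870
  · exact allList_iff.mp (allRange_iff.mp lrel_262 c (by omega) (by omega)) w hw
  clear h261
  by_cases h263 : c < 129360
  · exact allList_iff.mp (allRange_iff.mp lrel_263 c (by omega) (by omega)) w hw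
  clear h262
  by_cases h264 : c < 129850
  · exact allList_iff.mp (allRange_iff.mp lrel_264 c (by omega) (by omega)) w hw
  clear h263
  by_cases h265 : c < 130340
  · exact allList_iff.mp (allRange_iff.mp lrel_265 c (by omega) (by omega)) w hw
  clear h264
  by_cases h266 : c < 130830
  · exact allList_iff.mp (allRange_iff.mp lrel_266 c (by omega) (by omega)) w hw
  clear h265
  by_cases h267 : c < 131320
  · exact allList_iff.mp (allRange_iff.mp lrel_267 c (by omega) (by omega)) w hw
  clear h266
  by_cases h268 : c < 131810
  · exact allList_iff.mp (allRange_iff.mp lrel_268 c (by omega) (by omega)) w hw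
  clear h267
  by_cases h269 : c < 132300
  · exact allList_iff.mp (allRange_iff.mp lrel_269 c (by omega) (by omega)) w hw
  clear h268
  by_cases h270 : c < 132790
  · exact allList_iff.mp (allRange_iff.mp lrel_270 c (by omega) (by omega)) w hw
  clear h269
  by_cases h271 : c < 133280
  · exact allList_iff.mp (allRange_iff.mp lrel_271 c (by omega) (by omega)) w hw
  clear h270
  by_cases h272 : c < 133770
  · exact allList_iff.mp (allRange_iff.mp lrel_272 c (by omega) (by omega)) w hw
  clear h271
  by_cases h273 : c < 134260
  · exact allList_iff.mp (allRange_iff.mp lrel_273 c (by omega) (by omega)) w hw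
  clear h272
  by_cases h274 : c < 134750
  · exact allList_iff.mp (allRange_iff.mp lrel_274 c (by omega) (by omega)) w hw
  clear h273
  by_cases h275 : c < 135240
  · exact allList_iff.mp (allRange_iff.mp lrel_275 c (by omega) (by omega)) w hw
  clear h274
  by_cases h276 : c < 135730
  · exact allList_iff.mp (allRange_iff.mp lrel_276 c (by omega) (by omega)) w hw
  clear h275
  by_cases h277 : c < 136220
  · exact allList_iff.mp (allRange_iff.mp lrel_277 c (by omega) (by omega)) w hw
  clear h276
  by_cases h278 : c < 136710
  · exact allList_iff.mp (allRange_iff.mp lrel_278 c (by omega) (by omega)) w hw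
  clear h277
  by_cases h279 : c < 137200
  · exact allList_iff.mp (allRange_iff.mp lrel_279 c (by omega) (by omega)) w hw
  clear h278
  by_cases h280 : c < 137690
  · exact allList_iff.mp (allRange_iff.mp lrel_280 c (by omega) (by omega)) w hw
  clear h279
  by_cases h281 : c < 138180
  · exact allList_iff.mp (allRange_iff.mp lrel_281 c (by omega) (by omega)) w hw
  clear h280
  by_cases h282 : c < 138670
  · exact allList_iff.mp (allRange_iff.mp lrel_282 c (by omega) (by omega)) w hw
  clear h281
  by_cases h283 : c < 139160
  · exact allList_iff.mp (allRange_iff.mp lrel_283 c (by omega) (by omega)) w hw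
  clear h282
  by_cases h284 : c < 139650
  · exact allList_iff.mp (allRange_iff.mp lrel_284 c (by omega) (by omega)) w hw
  clear h283
  by_cases h285 : c < 140140
  · exact allList_iff.mp (allRange_iff.mp lrel_285 c (by omega) (by omega)) w hw
  clear h284
  by_cases h286 : c < 140630
  · exact allList_iff.mp (allRange_iff.mp lrel_286 c (by omega) (by omega)) w hw
  clear h285
  by_cases h287 : c < 141120
  · exact allList_iff.mp (allRange_iff.mp lrel_287 c (by omega) (by omega)) w hw
  clear h286
  by_cases h288 : c < 141610
  · exact allList_iff.mp (allRange_iff.mp lrel_288 c (by omega) (by omega)) w hw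
  clear h287
  by_cases h289 : c < 142100
  · exact allList_iff.mp (allRange_iff.mp lrel_289 c (by omega) (by omega)) w hw
  clear h288
  by_cases h290 : c < 142590
  · exact allList_iff.mp (allRange_iff.mp lrel_290 c (by omega) (by omega)) w hw
  clear h289
  by_cases h291 : c < 143080
  · exact allList_iff.mp (allRange_iff.mp lrel_291 c (by omega) (by omega)) w hw
  clear h290
  by_cases h292 : c < 143570
  · exact allList_iff.mp (allRange_iff.mp lrel_292 c (by omega) (by omega)) w hw
  clear h291
  by_cases h293 : c < 144060
  · exact allList_iff.mp (allRange_iff.mp lrel_293 c (by omega) (by omega)) w hw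
  clear h292
  by_cases h294 : c < 144550
  · exact allList_iff.mp (allRange_iff.mp lrel_294 c (by omega) (by omega)) w hw
  clear h293
  by_cases h295 : c < 145040
  · exact allList_iff.mp (allRange_iff.mp lrel_295 c (by omega) (by omega)) w hw
  clear h294
  by_cases h296 : c < 145530
  · exact allList_iff.mp (allRange_iff.mp lrel_296 c (by omega) (by omega)) w hw
  clear h295
  by_cases h297 : c < 146020
  · exact allList_iff.mp (allRange_iff.mp lrel_297 c (by omega) (by omega)) w hw
  clear h296
  by_cases h298 : c < 146510
  · exact allList_iff.mp (allRange_iff.mp lrel_298 c (by omega) (by omega)) w hw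
  clear h297
  by_cases h299 : c < 147000
  · exact allList_iff.mp (allRange_iff.mp lrel_299 c (by omega) (by omega)) w hw
  clear h298
  by_cases h300 : c < 147490
  · exact allList_iff.mp (allRange_iff.mp lrel_300 c (by omega) (by omega)) w hw
  clear h299
  by_cases h301 : c < 147980
  · exact allList_iff.mp (allRange_iff.mp lrel_301 c (by omega) (by omega)) w hw
  clear h300
  by_cases h302 : c < 148470
  · exact allList_iff.mp (allRange_iff.mp lrel_302 c (by omega) (by omega)) w hw
  clear h301
  by_cases h303 : c < 148960
  · exact allList_iff.mp (allRange_iff.mp lrel_303 c (by omega) (by omega)) w hw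
  clear h302
  by_cases h304 : c < 149450
  · exact allList_iff.mp (allRange_iff.mp lrel_304 c (by omega) (by omega)) w hw
  clear h303
  by_cases h305 : c < 149940
  · exact allList_iff.mp (allRange_iff.mp lrel_305 c (by omega) (by omega)) w hw
  clear h304
  by_cases h306 : c < 150430
  · exact allList_iff.mp (allRange_iff.mp lrel_306 c (by omega) (by omega)) w hw
  clear h305
  by_cases h307 : c < 150920
  · exact allList_iff.mp (allRange_iff.mp lrel_307 c (by omega) (by omega)) w hw
  clear h306
  by_cases h308 : c < 151410
  · exact allList_iff.mp (allRange_iff.mp lrel_308 c (by omega) (by omega)) w hw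
  clear h307
  by_cases h309 : c < 151900
  · exact allList_iff.mp (allRange_iff.mp lrel_309 c (by omega) (by omega)) w hw
  clear h308
  by_cases h310 : c < 152390
  · exact allList_iff.mp (allRange_iff.mp lrel_310 c (by omega) (by omega)) w hw
  clear h309
  by_cases h311 : c < 152880
  · exact allList_iff.mp (allRange_iff.mp lrel_311 c (by omega) (by omega)) w hw
  clear h310
  by_cases h312 : c < 153370
  · exact allList_iff.mp (allRange_iff.mp lrel_312 c (by omega) (by omega)) w hw
  clear h311
  by_cases h313 : c < 153860
  · exact allList_iff.mp (allRange_iff.mp lrel_313 c (by omega) (by omega)) w hw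
  clear h312
  by_cases h314 : c < 154350
  · exact allList_iff.mp (allRange_iff.mp lrel_314 c (by omega) (by omega)) w hw
  clear h313
  by_cases h315 : c < 154840
  · exact allList_iff.mp (allRange_iff.mp lrel_315 c (by omega) (by omega)) w hw
  clear h314
  by_cases h316 : c < 155330
  · exact allList_iff.mp (allRange_iff.mp lrel_316 c (by omega) (by omega)) w hw
  clear h315
  by_cases h317 : c < 155820
  · exact allList_iff.mp (allRange_iff.mp lrel_317 c (by omega) (by omega)) w hw
  clear h316
  by_cases h318 : c < 156310
  · exact allList_iff.mp (allRange_iff.mp lrel_318 c (by omega) (by omega)) w hw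
  clear h317
  by_cases h319 : c < 156800
  · exact allList_iff.mp (allRange_iff.mp lrel_319 c (by omega) (by omega)) w hw
  clear h318
  by_cases h320 : c < 157290
  · exact allList_iff.mp (allRange_iff.mp lrel_320 c (by omega) (by omega)) w hw
  clear h319
  by_cases h321 : c < 157780
  · exact allList_iff.mp (allRange_iff.mp lrel_321 c (by omega) (by omega)) w hw
  clear h320
  by_cases h322 : c < 158270
  · exact allList_iff.mp (allRange_iff.mp lrel_322 c (by omega) (by omega)) w hw
  clear h321
  by_cases h323 : c < 158760
  · exact allList_iff.mp (allRange_iff.mp lrel_323 c (by omega) (by omega)) w hw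
  clear h322
  by_cases h324 : c < 159250
  · exact allList_iff.mp (allRange_iff.mp lrel_324 c (by omega) (by omega)) w hw
  clear h323
  by_cases h325 : c < 159740
  · exact allList_iff.mp (allRange_iff.mp lrel_325 c (by omega) (by omega)) w hw
  clear h324
  by_cases h326 : c < 160230
  · exact allList_iff.mp (allRange_iff.mp lrel_326 c (by omega) (by omega)) w hw
  clear h325
  by_cases h327 : c < 160720
  · exact allList_iff.mp (allRange_iff.mp lrel_327 c (by omega) (by omega)) w hw
  clear h326
  by_cases h328 : c < 161210
  · exact allList_iff.mp (allRange_iff.mp lrel_328 c (by omega) (by omega)) w hw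
  clear h327
  by_cases h329 : c < 161700
  · exact allList_iff.mp (allRange_iff.mp lrel_329 c (by omega) (by omega)) w hw
  clear h328
  by_cases h330 : c < 162190
  · exact allList_iff.mp (allRange_iff.mp lrel_330 c (by omega) (by omega)) w hw
  clear h329
  by_cases h331 : c < 162680
  · exact allList_iff.mp (allRange_iff.mp lrel_331 c (by omega) (by omega)) w hw
  clear h330
  by_cases h332 : c < 163170
  · exact allList_iff.mp (allRange_iff.mp lrel_332 c (by omega) (by omega)) w hw
  clear h331
  by_cases h333 : c < 163660
  · exact allList_iff.mp (allRange_iff.mp lrel_333 c (by omega) (by omega)) w hw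
  clear h332
  by_cases h334 : c < 164150
  · exact allList_iff.mp (allRange_iff.mp lrel_334 c (by omega) (by omega)) w hw
  clear h333
  by_cases h335 : c < 164640
  · exact allList_iff.mp (allRange_iff.mp lrel_335 c (by omega) (by omega)) w hw
  clear h334
  by_cases h336 : c < 165130
  · exact allList_iff.mp (allRange_iff.mp lrel_336 c (by omega) (by omega)) w hw
  clear h335
  by_cases h337 : c < 165620
  · exact allList_iff.mp (allRange_iff.mp lrel_337 c (by omega) (by omega)) w hw
  clear h336
  by_cases h338 : c < 166110
  · exact allList_iff.mp (allRange_iff.mp lrel_338 c (by omega) (by omega)) w hw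
  clear h337
  by_cases h339 : c < 166600
  · exact allList_iff.mp (allRange_iff.mp lrel_339 c (by omega) (by omega)) w hw
  clear h338
  by_cases h340 : c < 167090
  · exact allList_iff.mp (allRange_iff.mp lrel_340 c (by omega) (by omega)) w hw
  clear h339
  by_cases h341 : c < 167580
  · exact allList_iff.mp (allRange_iff.mp lrel_341 c (by omega) (by omega)) w hw
  clear h340
  by_cases h342 : c < 168070
  · exact allList_iff.mp (allRange_iff.mp lrel_342 c (by omega) (by omega)) w hw
  clear h341
  by_cases h343 : c < 168560
  · exact allList_iff.mp (allRange_iff.mp lrel_343 c (by omega) (by omega)) w hw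
  clear h342
  by_cases h344 : c < 169050
  · exact allList_iff.mp (allRange_iff.mp lrel_344 c (by omega) (by omega)) w hw
  clear h343
  by_cases h345 : c < 169540
  · exact allList_iff.mp (allRange_iff.mp lrel_345 c (by omega) (by omega)) w hw
  clear h344
  by_cases h346 : c < 170030
  · exact allList_iff.mp (allRange_iff.mp lrel_346 c (by omega) (by omega)) w hw
  clear h345
  by_cases h347 : c < 170520
  · exact allList_iff.mp (allRange_iff.mp lrel_347 c (by omega) (by omega)) w hw
  clear h346
  by_cases h348 : c < 171010
  · exact allList_iff.mp (allRange_iff.mp lrel_348 c (by omega) (by omega)) w hw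
  clear h347
  by_cases h349 : c < 171500
  · exact allList_iff.mp (allRange_iff.mp lrel_349 c (by omega) (by omega)) w hw
  clear h348
  by_cases h350 : c < 171990
  · exact allList_iff.mp (allRange_iff.mp lrel_350 c (by omega) (by omega)) w hw
  clear h349
  by_cases h351 : c < 172480
  · exact allList_iff.mp (allRange_iff.mp lrel_351 c (by omega) (by omega)) w hw
  clear h350
  by_cases h352 : c < 172970
  · exact allList_iff.mp (allRange_iff.mp lrel_352 c (by omega) (by omega)) w hw
  clear h351
  by_cases h353 : c < 173460
  · exact allList_iff.mp (allRange_iff.mp lrel_353 c (by omega) (by omega)) w hw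
  clear h352
  by_cases h354 : c < 173950
  · exact allList_iff.mp (allRange_iff.mp lrel_354 c (by omega) (by omega)) w hw
  clear h353
  by_cases h355 : c < 174440
  · exact allList_iff.mp (allRange_iff.mp lrel_355 c (by omega) (by omega)) w hw
  clear h354
  by_cases h356 : c < 174930
  · exact allList_iff.mp (allRange_iff.mp lrel_356 c (by omega) (by omega)) w hw
  clear h355
  by_cases h357 : c < 175420
  · exact allList_iff.mp (allRange_iff.mp lrel_357 c (by omega) (by omega)) w hw
  clear h356
  by_cases h358 : c < 175910
  · exact allList_iff.mp (allRange_iff.mp lrel_358 c (by omega) (by omega)) w hw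
  clear h357
  by_cases h359 : c < 176400
  · exact allList_iff.mp (allRange_iff.mp lrel_359 c (by omega) (by omega)) w hw
  clear h358
  by_cases h360 : c < 176890
  · exact allList_iff.mp (allRange_iff.mp lrel_360 c (by omega) (by omega)) w hw
  clear h359
  by_cases h361 : c < 177380
  · exact allList_iff.mp (allRange_iff.mp lrel_361 c (by omega) (by omega)) w hw
  clear h360
  by_cases h362 : c < 177870
  · exact allList_iff.mp (allRange_iff.mp lrel_362 c (by omega) (by omega)) w hw
  clear h361
  by_cases h363 : c < 178360
  · exact allList_iff.mp (allRange_iff.mp lrel_363 c (by omega) (by omega)) w hw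
  clear h362
  by_cases h364 : c < 178850
  · exact allList_iff.mp (allRange_iff.mp lrel_364 c (by omega) (by omega)) w hw
  clear h363
  by_cases h365 : c < 179340
  · exact allList_iff.mp (allRange_iff.mp lrel_365 c (by omega) (by omega)) w hw
  clear h364
  by_cases h366 : c < 179830
  · exact allList_iff.mp (allRange_iff.mp lrel_366 c (by omega) (by omega)) w hw
  clear h365
  by_cases h367 : c < 180320
  · exact allList_iff.mp (allRange_iff.mp lrel_367 c (by omega) (by omega)) w hw
  clear h366
  by_cases h368 : c < 180810
  · exact allList_iff.mp (allRange_iff.mp lrel_368 c (by omega) (by omega)) w hw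
  clear h367
  by_cases h369 : c < 181300
  · exact allList_iff.mp (allRange_iff.mp lrel_369 c (by omega) (by omega)) w hw
  clear h368
  by_cases h370 : c < 181790
  · exact allList_iff.mp (allRange_iff.mp lrel_370 c (by omega) (by omega)) w hw
  clear h369
  by_cases h371 : c < 182280
  · exact allList_iff.mp (allRange_iff.mp lrel_371 c (by omega) (by omega)) w hw
  clear h370
  by_cases h372 : c < 182770
  · exact allList_iff.mp (allRange_iff.mp lrel_372 c (by omega) (by omega)) w hw
  clear h371
  by_cases h373 : c < 183260
  · exact allList_iff.mp (allRange_iff.mp lrel_373 c (by omega) (by omega)) w hw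
  clear h372
  by_cases h374 : c < 183750
  · exact allList_iff.mp (allRange_iff.mp lrel_374 c (by omega) (by omega)) w hw
  clear h373
  by_cases h375 : c < 184240
  · exact allList_iff.mp (allRange_iff.mp lrel_375 c (by omega) (by omega)) w hw
  clear h374
  by_cases h376 : c < 184730
  · exact allList_iff.mp (allRange_iff.mp lrel_376 c (by omega) (by omega)) w hw
  clear h375
  by_cases h377 : c < 185220
  · exact allList_iff.mp (allRange_iff.mp lrel_377 c (by omega) (by omega)) w hw
  clear h376
  by_cases h378 : c < 185710
  · exact allList_iff.mp (allRange_iff.mp lrel_378 c (by omega) (by omega)) w hw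
  clear h377
  by_cases h379 : c < 186200
  · exact allList_iff.mp (allRange_iff.mp lrel_379 c (by omega) (by omega)) w hw
  clear h378
  by_cases h380 : c < 186690
  · exact allList_iff.mp (allRange_iff.mp lrel_380 c (by omega) (by omega)) w hw
  clear h379
  by_cases h381 : c < 187180
  · exact allList_iff.mp (allRange_iff.mp lrel_381 c (by omega) (by omega)) w hw
  clear h380
  by_cases h382 : c < 187670
  · exact allList_iff.mp (allRange_iff.mp lrel_382 c (by omega) (by omega)) w hw
  clear h381
  by_cases h383 : c < 188160
  · exact allList_iff.mp (allRange_iff.mp lrel_383 c (by omega) (by omega)) w hw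
  clear h382
  by_cases h384 : c < 188650
  · exact allList_iff.mp (allRange_iff.mp lrel_384 c (by omega) (by omega)) w hw
  clear h383
  by_cases h385 : c < 189140
  · exact allList_iff.mp (allRange_iff.mp lrel_385 c (by omega) (by omega)) w hw
  clear h384
  by_cases h386 : c < 189630
  · exact allList_iff.mp (allRange_iff.mp lrel_386 c (by omega) (by omega)) w hw
  clear h385
  by_cases h387 : c < 190120
  · exact allList_iff.mp (allRange_iff.mp lrel_387 c (by omega) (by omega)) w hw
  clear h386
  by_cases h388 : c < 190610
  · exact allList_iff.mp (allRange_iff.mp lrel_388 c (by omega) (by omega)) w hw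
  clear h387
  by_cases h389 : c < 191100
  · exact allList_iff.mp (allRange_iff.mp lrel_389 c (by omega) (by omega)) w hw
  clear h388
  by_cases h390 : c < 191590
  · exact allList_iff.mp (allRange_iff.mp lrel_390 c (by omega) (by omega)) w hw
  clear h389
  by_cases h391 : c < 192080
  · exact allList_iff.mp (allRange_iff.mp lrel_391 c (by omega) (by omega)) w hw
  clear h390
  by_cases h392 : c < 192570
  · exact allList_iff.mp (allRange_iff.mp lrel_392 c (by omega) (by omega)) w hw
  clear h391
  by_cases h393 : c < 193060
  · exact allList_iff.mp (allRange_iff.mp lrel_393 c (by omega) (by omega)) w hw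
  clear h392
  by_cases h394 : c < 193550
  · exact allList_iff.mp (allRange_iff.mp lrel_394 c (by omega) (by omega)) w hw
  clear h393
  by_cases h395 : c < 194040
  · exact allList_iff.mp (allRange_iff.mp lrel_395 c (by omega) (by omega)) w hw
  clear h394
  by_cases h396 : c < 194530
  · exact allList_iff.mp (allRange_iff.mp lrel_396 c (by omega) (by omega)) w hw
  clear h395
  by_cases h397 : c < 195020
  · exact allList_iff.mp (allRange_iff.mp lrel_397 c (by omega) (by omega)) w hw
  clear h396
  by_cases h398 : c < 195510
  · exact allList_iff.mp (allRange_iff.mp lrel_398 c (by omega) (by omega)) w hw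
  clear h397
  by_cases h399 : c < 196000
  · exact allList_iff.mp (allRange_iff.mp lrel_399 c (by omega) (by omega)) w hw
  clear h398
  by_cases h400 : c < 196490
  · exact allList_iff.mp (allRange_iff.mp lrel_400 c (by omega) (by omega)) w hw
  clear h399
  by_cases h401 : c < 196980
  · exact allList_iff.mp (allRange_iff.mp lrel_401 c (by omega) (by omega)) w hw
  clear h400
  by_cases h402 : c < 197470
  · exact allList_iff.mp (allRange_iff.mp lrel_402 c (by omega) (by omega)) w hw
  clear h401
  by_cases h403 : c < 197960
  · exact allList_iff.mp (allRange_iff.mp lrel_403 c (by omega) (by omega)) w hw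
  clear h402
  by_cases h404 : c < 198450
  · exact allList_iff.mp (allRange_iff.mp lrel_404 c (by omega) (by omega)) w hw
  clear h403
  by_cases h405 : c < 198940
  · exact allList_iff.mp (allRange_iff.mp lrel_405 c (by omega) (by omega)) w hw
  clear h404
  by_cases h406 : c < 199430
  · exact allList_iff.mp (allRange_iff.mp lrel_406 c (by omega) (by omega)) w hw
  clear h405
  by_cases h407 : c < 199920
  · exact allList_iff.mp (allRange_iff.mp lrel_407 c (by omega) (by omega)) w hw
  clear h406
  by_cases h408 : c < 200410
  · exact allList_iff.mp (allRange_iff.mp lrel_408 c (by omega) (by omega)) w hw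
  clear h407
  by_cases h409 : c < 200900
  · exact allList_iff.mp (allRange_iff.mp lrel_409 c (by omega) (by omega)) w hw
  clear h408
  by_cases h410 : c < 201390
  · exact allList_iff.mp (allRange_iff.mp lrel_410 c (by omega) (by omega)) w hw
  clear h409
  by_cases h411 : c < 201880
  · exact allList_iff.mp (allRange_iff.mp lrel_411 c (by omega) (by omega)) w hw
  clear h410
  by_cases h412 : c < 202370
  · exact allList_iff.mp (allRange_iff.mp lrel_412 c (by omega) (by omega)) w hw
  clear h411
  by_cases h413 : c < 202860
  · exact allList_iff.mp (allRange_iff.mp lrel_413 c (by omega) (by omega)) w hw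
  clear h412
  by_cases h414 : c < 203350
  · exact allList_iff.mp (allRange_iff.mp lrel_414 c (by omega) (by omega)) w hw
  clear h413
  by_cases h415 : c < 203840
  · exact allList_iff.mp (allRange_iff.mp lrel_415 c (by omega) (by omega)) w hw
  clear h414
  by_cases h416 : c < 204330
  · exact allList_iff.mp (allRange_iff.mp lrel_416 c (by omega) (by omega)) w hw
  clear h415
  by_cases h417 : c < 204820
  · exact allList_iff.mp (allRange_iff.mp lrel_417 c (by omega) (by omega)) w hw
  clear h416
  by_cases h418 : c < 205310
  · exact allList_iff.mp (allRange_iff.mp lrel_418 c (by omega) (by omega)) w hw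
  clear h417
  by_cases h419 : c < 205800
  · exact allList_iff.mp (allRange_iff.mp lrel_419 c (by omega) (by omega)) w hw
  clear h418
  by_cases h420 : c < 206290
  · exact allList_iff.mp (allRange_iff.mp lrel_420 c (by omega) (by omega)) w hw
  clear h419
  by_cases h421 : c < 206780
  · exact allList_iff.mp (allRange_iff.mp lrel_421 c (by omega) (by omega)) w hw
  clear h420
  by_cases h422 : c < 207270
  · exact allList_iff.mp (allRange_iff.mp lrel_422 c (by omega) (by omega)) w hw
  clear h421
  by_cases h423 : c < 207760
  · exact allList_iff.mp (allRange_iff.mp lrel_423 c (by omega) (by omega)) w hw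
  clear h422
  by_cases h424 : c < 208250
  · exact allList_iff.mp (allRange_iff.mp lrel_424 c (by omega) (by omega)) w hw
  clear h423
  by_cases h425 : c < 208740
  · exact allList_iff.mp (allRange_iff.mp lrel_425 c (by omega) (by omega)) w hw
  clear h424
  by_cases h426 : c < 209230
  · exact allList_iff.mp (allRange_iff.mp lrel_426 c (by omega) (by omega)) w hw
  clear h425
  by_cases h427 : c < 209720
  · exact allList_iff.mp (allRange_iff.mp lrel_427 c (by omega) (by omega)) w hw
  clear h426
  by_cases h428 : c < 210210
  · exact allList_iff.mp (allRange_iff.mp lrel_428 c (by omega) (by omega)) w hw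
  clear h427
  by_cases h429 : c < 210700
  · exact allList_iff.mp (allRange_iff.mp lrel_429 c (by omega) (by omega)) w hw
  clear h428
  by_cases h430 : c < 211190
  · exact allList_iff.mp (allRange_iff.mp lrel_430 c (by omega) (by omega)) w hw
  clear h429
  by_cases h431 : c < 211680
  · exact allList_iff.mp (allRange_iff.mp lrel_431 c (by omega) (by omega)) w hw
  clear h430
  by_cases h432 : c < 212170
  · exact allList_iff.mp (allRange_iff.mp lrel_432 c (by omega) (by omega)) w hw
  clear h431
  by_cases h433 : c < 212660
  · exact allList_iff.mp (allRange_iff.mp lrel_433 c (by omega) (by omega)) w hw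
  clear h432
  by_cases h434 : c < 213150
  · exact allList_iff.mp (allRange_iff.mp lrel_434 c (by omega) (by omega)) w hw
  clear h433
  by_cases h435 : c < 213640
  · exact allList_iff.mp (allRange_iff.mp lrel_435 c (by omega) (by omega)) w hw
  clear h434
  by_cases h436 : c < 214130
  · exact allList_iff.mp (allRange_iff.mp lrel_436 c (by omega) (by omega)) w hw
  clear h435
  by_cases h437 : c < 214620
  · exact allList_iff.mp (allRange_iff.mp lrel_437 c (by omega) (by omega)) w hw
  clear h436
  by_cases h438 : c < 215110
  · exact allList_iff.mp (allRange_iff.mp lrel_438 c (by omega) (by omega)) w hw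
  clear h437
  by_cases h439 : c < 215600
  · exact allList_iff.mp (allRange_iff.mp lrel_439 c (by omega) (by omega)) w hw
  clear h438
  by_cases h440 : c < 216090
  · exact allList_iff.mp (allRange_iff.mp lrel_440 c (by omega) (by omega)) w hw
  clear h439
  by_cases h441 : c < 216580
  · exact allList_iff.mp (allRange_iff.mp lrel_441 c (by omega) (by omega)) w hw
  clear h440
  by_cases h442 : c < 217070
  · exact allList_iff.mp (allRange_iff.mp lrel_442 c (by omega) (by omega)) w hw
  clear h441
  by_cases h443 : c < 217560
  · exact allList_iff.mp (allRange_iff.mp lrel_443 c (by omega) (by omega)) w hw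
  clear h442
  by_cases h444 : c < 218050
  · exact allList_iff.mp (allRange_iff.mp lrel_444 c (by omega) (by omega)) w hw
  clear h443
  by_cases h445 : c < 218540
  · exact allList_iff.mp (allRange_iff.mp lrel_445 c (by omega) (by omega)) w hw
  clear h444
  by_cases h446 : c < 219030
  · exact allList_iff.mp (allRange_iff.mp lrel_446 c (by omega) (by omega)) w hw
  clear h445
  by_cases h447 : c < 219520
  · exact allList_iff.mp (allRange_iff.mp lrel_447 c (by omega) (by omega)) w hw
  clear h446
  by_cases h448 : c < 220010
  · exact allList_iff.mp (allRange_iff.mp lrel_448 c (by omega) (by omega)) w hw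
  clear h447
  by_cases h449 : c < 220500
  · exact allList_iff.mp (allRange_iff.mp lrel_449 c (by omega) (by omega)) w hw
  clear h448
  by_cases h450 : c < 220990
  · exact allList_iff.mp (allRange_iff.mp lrel_450 c (by omega) (by omega)) w hw
  clear h449
  by_cases h451 : c < 221480
  · exact allList_iff.mp (allRange_iff.mp lrel_451 c (by omega) (by omega)) w hw
  clear h450
  by_cases h452 : c < 221970
  · exact allList_iff.mp (allRange_iff.mp lrel_452 c (by omega) (by omega)) w hw
  clear h451
  by_cases h453 : c < 222460
  · exact allList_iff.mp (allRange_iff.mp lrel_453 c (by omega) (by omega)) w hw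
  clear h452
  by_cases h454 : c < 222950
  · exact allList_iff.mp (allRange_iff.mp lrel_454 c (by omega) (by omega)) w hw
  clear h453
  by_cases h455 : c < 223440
  · exact allList_iff.mp (allRange_iff.mp lrel_455 c (by omega) (by omega)) w hw
  clear h454
  by_cases h456 : c < 223930
  · exact allList_iff.mp (allRange_iff.mp lrel_456 c (by omega) (by omega)) w hw
  clear h455
  by_cases h457 : c < 224420
  · exact allList_iff.mp (allRange_iff.mp lrel_457 c (by omega) (by omega)) w hw
  clear h456
  by_cases h458 : c < 224910
  · exact allList_iff.mp (allRange_iff.mp lrel_458 c (by omega) (by omega)) w hw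
  clear h457
  by_cases h459 : c < 225400
  · exact allList_iff.mp (allRange_iff.mp lrel_459 c (by omega) (by omega)) w hw
  clear h458
  by_cases h460 : c < 225890
  · exact allList_iff.mp (allRange_iff.mp lrel_460 c (by omega) (by omega)) w hw
  clear h459
  by_cases h461 : c < 226380
  · exact allList_iff.mp (allRange_iff.mp lrel_461 c (by omega) (by omega)) w hw
  clear h460
  by_cases h462 : c < 226870
  · exact allList_iff.mp (allRange_iff.mp lrel_462 c (by omega) (by omega)) w hw
  clear h461
  by_cases h463 : c < 227360
  · exact allList_iff.mp (allRange_iff.mp lrel_463 c (by omega) (by omega)) w hw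
  clear h462
  by_cases h464 : c < 227850
  · exact allList_iff.mp (allRange_iff.mp lrel_464 c (by omega) (by omega)) w hw
  clear h463
  by_cases h465 : c < 228340
  · exact allList_iff.mp (allRange_iff.mp lrel_465 c (by omega) (by omega)) w hw
  clear h464
  by_cases h466 : c < 228830
  · exact allList_iff.mp (allRange_iff.mp lrel_466 c (by omega) (by omega)) w hw
  clear h465
  by_cases h467 : c < 229320
  · exact allList_iff.mp (allRange_iff.mp lrel_467 c (by omega) (by omega)) w hw
  clear h466
  by_cases h468 : c < 229810
  · exact allList_iff.mp (allRange_iff.mp lrel_468 c (by omega) (by omega)) w hw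
  clear h467
  by_cases h469 : c < 230300
  · exact allList_iff.mp (allRange_iff.mp lrel_469 c (by omega) (by omega)) w hw
  clear h468
  by_cases h470 : c < 230790
  · exact allList_iff.mp (allRange_iff.mp lrel_470 c (by omega) (by omega)) w hw
  clear h469
  by_cases h471 : c < 231280
  · exact allList_iff.mp (allRange_iff.mp lrel_471 c (by omega) (by omega)) w hw
  clear h470
  by_cases h472 : c < 231770
  · exact allList_iff.mp (allRange_iff.mp lrel_472 c (by omega) (by omega)) w hw
  clear h471
  by_cases h473 : c < 232260
  · exact allList_iff.mp (allRange_iff.mp lrel_473 c (by omega) (by omega)) w hw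
  clear h472
  by_cases h474 : c < 232750
  · exact allList_iff.mp (allRange_iff.mp lrel_474 c (by omega) (by omega)) w hw
  clear h473
  by_cases h475 : c < 233240
  · exact allList_iff.mp (allRange_iff.mp lrel_475 c (by omega) (by omega)) w hw
  clear h474
  by_cases h476 : c < 233730
  · exact allList_iff.mp (allRange_iff.mp lrel_476 c (by omega) (by omega)) w hw
  clear h475
  by_cases h477 : c < 234220
  · exact allList_iff.mp (allRange_iff.mp lrel_477 c (by omega) (by omega)) w hw
  clear h476
  by_cases h478 : c < 234710
  · exact allList_iff.mp (allRange_iff.mp lrel_478 c (by omega) (by omega)) w hw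
  clear h477
  by_cases h479 : c < 235200
  · exact allList_iff.mp (allRange_iff.mp lrel_479 c (by omega) (by omega)) w hw
  clear h478
  by_cases h480 : c < 235690
  · exact allList_iff.mp (allRange_iff.mp lrel_480 c (by omega) (by omega)) w hw
  clear h479
  by_cases h481 : c < 236180
  · exact allList_iff.mp (allRange_iff.mp lrel_481 c (by omega) (by omega)) w hw
  clear h480
  by_cases h482 : c < 236670
  · exact allList_iff.mp (allRange_iff.mp lrel_482 c (by omega) (by omega)) w hw
  clear h481
  by_cases h483 : c < 237160
  · exact allList_iff.mp (allRange_iff.mp lrel_483 c (by omega) (by omega)) w hw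
  clear h482
  by_cases h484 : c < 237650
  · exact allList_iff.mp (allRange_iff.mp lrel_484 c (by omega) (by omega)) w hw
  clear h483
  by_cases h485 : c < 238140
  · exact allList_iff.mp (allRange_iff.mp lrel_485 c (by omega) (by omega)) w hw
  clear h484
  by_cases h486 : c < 238630
  · exact allList_iff.mp (allRange_iff.mp lrel_486 c (by omega) (by omega)) w hw
  clear h485
  by_cases h487 : c < 239120
  · exact allList_iff.mp (allRange_iff.mp lrel_487 c (by omega) (by omega)) w hw
  clear h486
  by_cases h488 : c < 239610
  · exact allList_iff.mp (allRange_iff.mp lrel_488 c (by omega) (by omega)) w hw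
  clear h487
  by_cases h489 : c < 240100
  · exact allList_iff.mp (allRange_iff.mp lrel_489 c (by omega) (by omega)) w hw
  clear h488
  by_cases h490 : c < 240590
  · exact allList_iff.mp (allRange_iff.mp lrel_490 c (by omega) (by omega)) w hw
  clear h489
  by_cases h491 : c < 241080
  · exact allList_iff.mp (allRange_iff.mp lrel_491 c (by omega) (by omega)) w hw
  clear h490
  by_cases h492 : c < 241570
  · exact allList_iff.mp (allRange_iff.mp lrel_492 c (by omega) (by omega)) w hw
  clear h491
  by_cases h493 : c < 242060
  · exact allList_iff.mp (allRange_iff.mp lrel_493 c (by omega) (by omega)) w hw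
  clear h492
  by_cases h494 : c < 242550
  · exact allList_iff.mp (allRange_iff.mp lrel_494 c (by omega) (by omega)) w hw
  clear h493
  by_cases h495 : c < 243040
  · exact allList_iff.mp (allRange_iff.mp lrel_495 c (by omega) (by omega)) w hw
  clear h494
  by_cases h496 : c < 243530
  · exact allList_iff.mp (allRange_iff.mp lrel_496 c (by omega) (by omega)) w hw
  clear h495
  by_cases h497 : c < 244020
  · exact allList_iff.mp (allRange_iff.mp lrel_497 c (by omega) (by omega)) w hw
  clear h496
  by_cases h498 : c < 244510
  · exact allList_iff.mp (allRange_iff.mp lrel_498 c (by omega) (by omega)) w hw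
  clear h497
  by_cases h499 : c < 245000
  · exact allList_iff.mp (allRange_iff.mp lrel_499 c (by omega) (by omega)) w hw
  clear h498
  by_cases h500 : c < 245490
  · exact allList_iff.mp (allRange_iff.mp lrel_500 c (by omega) (by omega)) w hw
  clear h499
  by_cases h501 : c < 245980
  · exact allList_iff.mp (allRange_iff.mp lrel_501 c (by omega) (by omega)) w hw
  clear h500
  by_cases h502 : c < 246470
  · exact allList_iff.mp (allRange_iff.mp lrel_502 c (by omega) (by omega)) w hw
  clear h501
  by_cases h503 : c < 246960
  · exact allList_iff.mp (allRange_iff.mp lrel_503 c (by omega) (by omega)) w hw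
  clear h502
  by_cases h504 : c < 247450
  · exact allList_iff.mp (allRange_iff.mp lrel_504 c (by omega) (by omega)) w hw
  clear h503
  by_cases h505 : c < 247940
  · exact allList_iff.mp (allRange_iff.mp lrel_505 c (by omega) (by omega)) w hw
  clear h504
  by_cases h506 : c < 248430
  · exact allList_iff.mp (allRange_iff.mp lrel_506 c (by omega) (by omega)) w hw
  clear h505
  by_cases h507 : c < 248920
  · exact allList_iff.mp (allRange_iff.mp lrel_507 c (by omega) (by omega)) w hw
  clear h506
  by_cases h508 : c < 249410
  · exact allList_iff.mp (allRange_iff.mp lrel_508 c (by omega) (by omega)) w hw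
  clear h507
  by_cases h509 : c < 249900
  · exact allList_iff.mp (allRange_iff.mp lrel_509 c (by omega) (by omega)) w hw
  clear h508
  by_cases h510 : c < 250390
  · exact allList_iff.mp (allRange_iff.mp lrel_510 c (by omega) (by omega)) w hw
  clear h509
  by_cases h511 : c < 250880
  · exact allList_iff.mp (allRange_iff.mp lrel_511 c (by omega) (by omega)) w hw
  clear h510
  by_cases h512 : c < 251370
  · exact allList_iff.mp (allRange_iff.mp lrel_512 c (by omega) (by omega)) w hw
  clear h511
  by_cases h513 : c < 251860
  · exact allList_iff.mp (allRange_iff.mp lrel_513 c (by omega) (by omega)) w hw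
  clear h512
  by_cases h514 : c < 252350
  · exact allList_iff.mp (allRange_iff.mp lrel_514 c (by omega) (by omega)) w hw
  clear h513
  by_cases h515 : c < 252840
  · exact allList_iff.mp (allRange_iff.mp lrel_515 c (by omega) (by omega)) w hw
  clear h514
  by_cases h516 : c < 253330
  · exact allList_iff.mp (allRange_iff.mp lrel_516 c (by omega) (by omega)) w hw
  clear h515
  by_cases h517 : c < 253820
  · exact allList_iff.mp (allRange_iff.mp lrel_517 c (by omega) (by omega)) w hw
  clear h516
  by_cases h518 : c < 254310
  · exact allList_iff.mp (allRange_iff.mp lrel_518 c (by omega) (by omega)) w hw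
  clear h517
  by_cases h519 : c < 254800
  · exact allList_iff.mp (allRange_iff.mp lrel_519 c (by omega) (by omega)) w hw
  clear h518
  by_cases h520 : c < 255290
  · exact allList_iff.mp (allRange_iff.mp lrel_520 c (by omega) (by omega)) w hw
  clear h519
  by_cases h521 : c < 255780
  · exact allList_iff.mp (allRange_iff.mp lrel_521 c (by omega) (by omega)) w hw
  clear h520
  by_cases h522 : c < 256270
  · exact allList_iff.mp (allRange_iff.mp lrel_522 c (by omega) (by omega)) w hw
  clear h521
  by_cases h523 : c < 256760
  · exact allList_iff.mp (allRange_iff.mp lrel_523 c (by omega) (by omega)) w hw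
  clear h522
  by_cases h524 : c < 257250
  · exact allList_iff.mp (allRange_iff.mp lrel_524 c (by omega) (by omega)) w hw
  clear h523
  by_cases h525 : c < 257740
  · exact allList_iff.mp (allRange_iff.mp lrel_525 c (by omega) (by omega)) w hw
  clear h524
  by_cases h526 : c < 258230
  · exact allList_iff.mp (allRange_iff.mp lrel_526 c (by omega) (by omega)) w hw
  clear h525
  by_cases h527 : c < 258720
  · exact allList_iff.mp (allRange_iff.mp lrel_527 c (by omega) (by omega)) w hw
  clear h526
  by_cases h528 : c < 259210
  · exact allList_iff.mp (allRange_iff.mp lrel_528 c (by omega) (by omega)) w hw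
  clear h527
  by_cases h529 : c < 259700
  · exact allList_iff.mp (allRange_iff.mp lrel_529 c (by omega) (by omega)) w hw
  clear h528
  by_cases h530 : c < 260190
  · exact allList_iff.mp (allRange_iff.mp lrel_530 c (by omega) (by omega)) w hw
  clear h529
  by_cases h531 : c < 260680
  · exact allList_iff.mp (allRange_iff.mp lrel_531 c (by omega) (by omega)) w hw
  clear h530
  by_cases h532 : c < 261170
  · exact allList_iff.mp (allRange_iff.mp lrel_532 c (by omega) (by omega)) w hw
  clear h531
  by_cases h533 : c < 261660
  · exact allList_iff.mp (allRange_iff.mp lrel_533 c (by omega) (by omega)) w hw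
  clear h532
  by_cases h534 : c < 262150
  · exact allList_iff.mp (allRange_iff.mp lrel_534 c (by omega) (by omega)) w hw
  clear h533
  by_cases h535 : c < 262640
  · exact allList_iff.mp (allRange_iff.mp lrel_535 c (by omega) (by omega)) w hw
  clear h534
  by_cases h536 : c < 263130
  · exact allList_iff.mp (allRange_iff.mp lrel_536 c (by omega) (by omega)) w hw
  clear h535
  by_cases h537 : c < 263620
  · exact allList_iff.mp (allRange_iff.mp lrel_537 c (by omega) (by omega)) w hw
  clear h536
  by_cases h538 : c < 264110
  · exact allList_iff.mp (allRange_iff.mp lrel_538 c (by omega) (by omega)) w hw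
  clear h537
  by_cases h539 : c < 264600
  · exact allList_iff.mp (allRange_iff.mp lrel_539 c (by omega) (by omega)) w hw
  clear h538
  by_cases h540 : c < 265090
  · exact allList_iff.mp (allRange_iff.mp lrel_540 c (by omega) (by omega)) w hw
  clear h539
  by_cases h541 : c < 265580
  · exact allList_iff.mp (allRange_iff.mp lrel_541 c (by omega) (by omega)) w hw
  clear h540
  by_cases h542 : c < 266070
  · exact allList_iff.mp (allRange_iff.mp lrel_542 c (by omega) (by omega)) w hw
  clear h541
  by_cases h543 : c < 266560
  · exact allList_iff.mp (allRange_iff.mp lrel_543 c (by omega) (by omega)) w hw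
  clear h542
  by_cases h544 : c < 267050
  · exact allList_iff.mp (allRange_iff.mp lrel_544 c (by omega) (by omega)) w hw
  clear h543
  by_cases h545 : c < 267540
  · exact allList_iff.mp (allRange_iff.mp lrel_545 c (by omega) (by omega)) w hw
  clear h544
  by_cases h546 : c < 268030
  · exact allList_iff.mp (allRange_iff.mp lrel_546 c (by omega) (by omega)) w hw
  clear h545
  by_cases h547 : c < 268520
  · exact allList_iff.mp (allRange_iff.mp lrel_547 c (by omega) (by omega)) w hw
  clear h546
  by_cases h548 : c < 269010
  · exact allList_iff.mp (allRange_iff.mp lrel_548 c (by omega) (by omega)) w hw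
  clear h547
  by_cases h549 : c < 269500
  · exact allList_iff.mp (allRange_iff.mp lrel_549 c (by omega) (by omega)) w hw
  clear h548
  by_cases h550 : c < 269990
  · exact allList_iff.mp (allRange_iff.mp lrel_550 c (by omega) (by omega)) w hw
  clear h549
  by_cases h551 : c < 270480
  · exact allList_iff.mp (allRange_iff.mp lrel_551 c (by omega) (by omega)) w hw
  clear h550
  by_cases h552 : c < 270970
  · exact allList_iff.mp (allRange_iff.mp lrel_552 c (by omega) (by omega)) w hw
  clear h551
  by_cases h553 : c < 271460
  · exact allList_iff.mp (allRange_iff.mp lrel_553 c (by omega) (by omega)) w hw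
  clear h552
  by_cases h554 : c < 271950
  · exact allList_iff.mp (allRange_iff.mp lrel_554 c (by omega) (by omega)) w hw
  clear h553
  by_cases h555 : c < 272440
  · exact allList_iff.mp (allRange_iff.mp lrel_555 c (by omega) (by omega)) w hw
  clear h554
  by_cases h556 : c < 272930
  · exact allList_iff.mp (allRange_iff.mp lrel_556 c (by omega) (by omega)) w hw
  clear h555
  by_cases h557 : c < 273420
  · exact allList_iff.mp (allRange_iff.mp lrel_557 c (by omega) (by omega)) w hw
  clear h556
  by_cases h558 : c < 273910
  · exact allList_iff.mp (allRange_iff.mp lrel_558 c (by omega) (by omega)) w hw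
  clear h557
  by_cases h559 : c < 274400
  · exact allList_iff.mp (allRange_iff.mp lrel_559 c (by omega) (by omega)) w hw
  clear h558
  by_cases h560 : c < 274890
  · exact allList_iff.mp (allRange_iff.mp lrel_560 c (by omega) (by omega)) w hw
  clear h559
  by_cases h561 : c < 275380
  · exact allList_iff.mp (allRange_iff.mp lrel_561 c (by omega) (by omega)) w hw
  clear h560
  by_cases h562 : c < 275870
  · exact allList_iff.mp (allRange_iff.mp lrel_562 c (by omega) (by omega)) w hw
  clear h561
  by_cases h563 : c < 276360
  · exact allList_iff.mp (allRange_iff.mp lrel_563 c (by omega) (by omega)) w hw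
  clear h562
  by_cases h564 : c < 276850
  · exact allList_iff.mp (allRange_iff.mp lrel_564 c (by omega) (by omega)) w hw
  clear h563
  by_cases h565 : c < 277340
  · exact allList_iff.mp (allRange_iff.mp lrel_565 c (by omega) (by omega)) w hw
  clear h564
  by_cases h566 : c < 277830
  · exact allList_iff.mp (allRange_iff.mp lrel_566 c (by omega) (by omega)) w hw
  clear h565
  by_cases h567 : c < 278320
  · exact allList_iff.mp (allRange_iff.mp lrel_567 c (by omega) (by omega)) w hw
  clear h566
  by_cases h568 : c < 278810
  · exact allList_iff.mp (allRange_iff.mp lrel_568 c (by omega) (by omega)) w hw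
  clear h567
  by_cases h569 : c < 279300
  · exact allList_iff.mp (allRange_iff.mp lrel_569 c (by omega) (by omega)) w hw
  clear h568
  by_cases h570 : c < 279790
  · exact allList_iff.mp (allRange_iff.mp lrel_570 c (by omega) (by omega)) w hw
  clear h569
  by_cases h571 : c < 280280
  · exact allList_iff.mp (allRange_iff.mp lrel_571 c (by omega) (by omega)) w hw
  clear h570
  by_cases h572 : c < 280770
  · exact allList_iff.mp (allRange_iff.mp lrel_572 c (by omega) (by omega)) w hw
  clear h571
  by_cases h573 : c < 281260
  · exact allList_iff.mp (allRange_iff.mp lrel_573 c (by omega) (by omega)) w hw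
  clear h572
  by_cases h574 : c < 281750
  · exact allList_iff.mp (allRange_iff.mp lrel_574 c (by omega) (by omega)) w hw
  clear h573
  by_cases h575 : c < 282240
  · exact allList_iff.mp (allRange_iff.mp lrel_575 c (by omega) (by omega)) w hw
  clear h574
  by_cases h576 : c < 282730
  · exact allList_iff.mp (allRange_iff.mp lrel_576 c (by omega) (by omega)) w hw
  clear h575
  by_cases h577 : c < 283220
  · exact allList_iff.mp (allRange_iff.mp lrel_577 c (by omega) (by omega)) w hw
  clear h576
  by_cases h578 : c < 283710
  · exact allList_iff.mp (allRange_iff.mp lrel_578 c (by omega) (by omega)) w hw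
  clear h577
  by_cases h579 : c < 284200
  · exact allList_iff.mp (allRange_iff.mp lrel_579 c (by omega) (by omega)) w hw
  clear h578
  by_cases h580 : c < 284690
  · exact allList_iff.mp (allRange_iff.mp lrel_580 c (by omega) (by omega)) w hw
  clear h579
  by_cases h581 : c < 285180
  · exact allList_iff.mp (allRange_iff.mp lrel_581 c (by omega) (by omega)) w hw
  clear h580
  by_cases h582 : c < 285670
  · exact allList_iff.mp (allRange_iff.mp lrel_582 c (by omega) (by omega)) w hw
  clear h581
  by_cases h583 : c < 286160
  · exact allList_iff.mp (allRange_iff.mp lrel_583 c (by omega) (by omega)) w hw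
  clear h582
  by_cases h584 : c < 286650
  · exact allList_iff.mp (allRange_iff.mp lrel_584 c (by omega) (by omega)) w hw
  clear h583
  by_cases h585 : c < 287140
  · exact allList_iff.mp (allRange_iff.mp lrel_585 c (by omega) (by omega)) w hw
  clear h584
  by_cases h586 : c < 287630
  · exact allList_iff.mp (allRange_iff.mp lrel_586 c (by omega) (by omega)) w hw
  clear h585
  by_cases h587 : c < 288120
  · exact allList_iff.mp (allRange_iff.mp lrel_587 c (by omega) (by omega)) w hw
  clear h586
  by_cases h588 : c < 288610
  · exact allList_iff.mp (allRange_iff.mp lrel_588 c (by omega) (by omega)) w hw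
  clear h587
  by_cases h589 : c < 289100
  · exact allList_iff.mp (allRange_iff.mp lrel_589 c (by omega) (by omega)) w hw
  clear h588
  by_cases h590 : c < 289590
  · exact allList_iff.mp (allRange_iff.mp lrel_590 c (by omega) (by omega)) w hw
  clear h589
  by_cases h591 : c < 290080
  · exact allList_iff.mp (allRange_iff.mp lrel_591 c (by omega) (by omega)) w hw
  clear h590
  by_cases h592 : c < 290570
  · exact allList_iff.mp (allRange_iff.mp lrel_592 c (by omega) (by omega)) w hw
  clear h591
  by_cases h593 : c < 291060
  · exact allList_iff.mp (allRange_iff.mp lrel_593 c (by omega) (by omega)) w hw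
  clear h592
  by_cases h594 : c < 291550
  · exact allList_iff.mp (allRange_iff.mp lrel_594 c (by omega) (by omega)) w hw
  clear h593
  by_cases h595 : c < 292040
  · exact allList_iff.mp (allRange_iff.mp lrel_595 c (by omega) (by omega)) w hw
  clear h594
  by_cases h596 : c < 292530
  · exact allList_iff.mp (allRange_iff.mp lrel_596 c (by omega) (by omega)) w hw
  clear h595
  by_cases h597 : c < 293020
  · exact allList_iff.mp (allRange_iff.mp lrel_597 c (by omega) (by omega)) w hw
  clear h596
  by_cases h598 : c < 293510
  · exact allList_iff.mp (allRange_iff.mp lrel_598 c (by omega) (by omega)) w hw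
  clear h597
  by_cases h599 : c < 294000
  · exact allList_iff.mp (allRange_iff.mp lrel_599 c (by omega) (by omega)) w hw
  clear h598
  by_cases h600 : c < 294490
  · exact allList_iff.mp (allRange_iff.mp lrel_600 c (by omega) (by omega)) w hw
  clear h599
  by_cases h601 : c < 294980
  · exact allList_iff.mp (allRange_iff.mp lrel_601 c (by omega) (by omega)) w hw
  clear h600
  by_cases h602 : c < 295470
  · exact allList_iff.mp (allRange_iff.mp lrel_602 c (by omega) (by omega)) w hw
  clear h601
  by_cases h603 : c < 295960
  · exact allList_iff.mp (allRange_iff.mp lrel_603 c (by omega) (by omega)) w hw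
  clear h602
  by_cases h604 : c < 296450
  · exact allList_iff.mp (allRange_iff.mp lrel_604 c (by omega) (by omega)) w hw
  clear h603
  by_cases h605 : c < 296940
  · exact allList_iff.mp (allRange_iff.mp lrel_605 c (by omega) (by omega)) w hw
  clear h604
  by_cases h606 : c < 297430
  · exact allList_iff.mp (allRange_iff.mp lrel_606 c (by omega) (by omega)) w hw
  clear h605
  by_cases h607 : c < 297920
  · exact allList_iff.mp (allRange_iff.mp lrel_607 c (by omega) (by omega)) w hw
  clear h606
  by_cases h608 : c < 298410
  · exact allList_iff.mp (allRange_iff.mp lrel_608 c (by omega) (by omega)) w hw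
  clear h607
  by_cases h609 : c < 298900
  · exact allList_iff.mp (allRange_iff.mp lrel_609 c (by omega) (by omega)) w hw
  clear h608
  by_cases h610 : c < 299390
  · exact allList_iff.mp (allRange_iff.mp lrel_610 c (by omega) (by omega)) w hw
  clear h609
  by_cases h611 : c < 299880
  · exact allList_iff.mp (allRange_iff.mp lrel_611 c (by omega) (by omega)) w hw
  clear h610
  by_cases h612 : c < 300370
  · exact allList_iff.mp (allRange_iff.mp lrel_612 c (by omega) (by omega)) w hw
  clear h611
  by_cases h613 : c < 300860
  · exact allList_iff.mp (allRange_iff.mp lrel_613 c (by omega) (by omega)) w hw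
  clear h612
  by_cases h614 : c < 301350
  · exact allList_iff.mp (allRange_iff.mp lrel_614 c (by omega) (by omega)) w hw
  clear h613
  by_cases h615 : c < 301840
  · exact allList_iff.mp (allRange_iff.mp lrel_615 c (by omega) (by omega)) w hw
  clear h614
  by_cases h616 : c < 302330
  · exact allList_iff.mp (allRange_iff.mp lrel_616 c (by omega) (by omega)) w hw
  clear h615
  by_cases h617 : c < 302820
  · exact allList_iff.mp (allRange_iff.mp lrel_617 c (by omega) (by omega)) w hw
  clear h616
  by_cases h618 : c < 303310
  · exact allList_iff.mp (allRange_iff.mp lrel_618 c (by omega) (by omega)) w hw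
  clear h617
  by_cases h619 : c < 303800
  · exact allList_iff.mp (allRange_iff.mp lrel_619 c (by omega) (by omega)) w hw
  clear h618
  by_cases h620 : c < 304290
  · exact allList_iff.mp (allRange_iff.mp lrel_620 c (by omega) (by omega)) w hw
  clear h619
  by_cases h621 : c < 304780
  · exact allList_iff.mp (allRange_iff.mp lrel_621 c (by omega) (by omega)) w hw
  clear h620
  by_cases h622 : c < 305270
  · exact allList_iff.mp (allRange_iff.mp lrel_622 c (by omega) (by omega)) w hw
  clear h621
  by_cases h623 : c < 305760
  · exact allList_iff.mp (allRange_iff.mp lrel_623 c (by omega) (by omega)) w hw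
  clear h622
  by_cases h624 : c < 306250
  · exact allList_iff.mp (allRange_iff.mp lrel_624 c (by omega) (by omega)) w hw
  clear h623
  by_cases h625 : c < 306740
  · exact allList_iff.mp (allRange_iff.mp lrel_625 c (by omega) (by omega)) w hw
  clear h624
  by_cases h626 : c < 306936
  · exact allList_iff.mp (allRange_iff.mp lrel_626 c (by omega) (by omega)) w hw
  clear h625
  omega

end Cfsg.Agent.Lib.Helper30.Fi24.F306936
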