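import Cfsg.Agent.Lib.Helper30.Fi24.F306936ChkU0
import Cfsg.Agent.Lib.Helper30.Fi24.F306936ChkU1
import Cfsg.Agent.Lib.Helper30.Fi24.F306936ChkU2
import Cfsg.Agent.Lib.Helper30.Fi24.F306936ChkU3
import Cfsg.Agent.Lib.Helper30.Fi24.F306936ChkU4
import Cfsg.Agent.Lib.Helper30.Fi24.F306936ChkU5
import Cfsg.Agent.Lib.Helper30.Fi24.F306936ChkU6
import Cfsg.Agent.Lib.Helper30.Fi24.F306936ChkU7
import Cfsg.Agent.Lib.Helper30.Fi24.F306936ChkU8
import Cfsg.Agent.Lib.Helper30.Fi24.F306936ChkU9
import Cfsg.Agent.Lib.Helper30.Fi24.F306936ChkU10
import Cfsg.Agent.Lib.Helper30.Fi24.F306936ChkU11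
import Cfsg.Agent.Lib.Helper30.Fi24.F306936ChkU12
import Cfsg.Agent.Lib.Helper30.Fi24.F306936ChkU13
import Cfsg.Agent.Lib.Helper30.Fi24.F306936ChkU14
import Cfsg.Agent.Lib.Helper30.Fi24.F306936ChkU15
import Cfsg.Agent.Lib.Helper30.Fi24.F306936ChkU16
import Cfsg.Agent.Lib.Helper30.Fi24.F306936ChkU17
import Cfsg.Agent.Lib.Helper30.Fi24.F306936ChkU18
import Cfsg.Agent.Lib.Helper30.Fi24.F306936ChkU19
import Cfsg.Agent.Lib.Helper30.Fi24.F306936ChkU20
import Cfsg.Agent.Lib.Helper30.Fi24.F306936ChkU21
import Cfsg.Agent.Lib.Helper30.Fi24.F306936ChkU22
import Cfsg.Agent.Lib.Helper30.Fi24.F306936ChkU23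
import Cfsg.Agent.Lib.Helper30.Fi24.F306936ChkU24
import Cfsg.Agent.Lib.Helper30.Fi24.F306936ChkU25
import Cfsg.Agent.Lib.Helper30.Fi24.F306936ChkU26
import Cfsg.Agent.Lib.Helper30.Fi24.F306936ChkU27
import Cfsg.Agent.Lib.Helper30.Fi24.F306936ChkU28
import Cfsg.Agent.Lib.Helper30.Fi24.F306936ChkU29
import Cfsg.Agent.Lib.Helper30.Fi24.F306936ChkUF
import Cfsg.Agent.Lib.Helper30.Fi24.F306936Data

set_option autoImplicit false
set_option maxRecDepth 100000

namespace Cfsg.Agent.Lib.Helper30.Fi24.F306936

open Cfsg.Agent.Lib.Helper28

theorem pairs_ok : Q.pairsC.all (pairOK (relsAll Q.relW Q.invA Q.Kall) Q.invA Q.P.K Q.Kall) = true := by decide +kernel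
theorem pairs_eq : Q.D.pairs = Q.pairsC.map Prod.fst := by decide +kernel
theorem relsK_ok : ∀ r ∈ relsAll Q.relW Q.invA Q.Kall, ∀ y ∈ r, y < Q.Kall := by decide +kernel
theorem check_all : ∀ c < D.m, D.checkLabel c = true := by
  intro c hc
  have hc' : c < 349988 := hc
  by_cases h0 : c < 1000
  · exact allRange_iff.mp chk_0 c (by omega) (by omega)
  by_cases h1 : c < 2000
  · exact allRange_iff.mp chk_1 c (by omega) (by omega)
  clear h0
  by_cases h2 : c < 3000
  · exact allRange_iff.mp chk_2 c (by omega) (by omega)
  clear h1
  by_cases h3 : c < 4000
  · exact allRange_iff.mp chk_3 c (by omega) (by omega)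
  clear h2
  by_cases h4 : c < 5000
  · exact allRange_iff.mp chk_4 c (by omega) (by omega)
  clear h3
  by_cases h5 : c < 6000
  · exact allRange_iff.mp chk_5 c (by omega) (by omega)
  clear h4
  by_cases h6 : c < 7000
  · exact allRange_iff.mp chk_6 c (by omega) (by omega)
  clear h5
  by_cases h7 : c < 8000
  · exact allRange_iff.mp chk_7 c (by omega) (by omega)
  clear h6
  by_cases h8 : c < 9000
  · exact allRange_iff.mp chk_8 c (by omega) (by omega)
  clear h7
  by_cases h9 : c < 10000
  · exact allRange_iff.mp chk_9 c (by omega) (by omega)
  clear h8
  by_cases h10 : c < 11000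
  · exact allRange_iff.mp chk_10 c (by omega) (by omega)
  clear h9
  by_cases h11 : c < 12000
  · exact allRange_iff.mp chk_11 c (by omega) (by omega)
  clear h10
  by_cases h12 : c < 13000
  · exact allRange_iff.mp chk_12 c (by omega) (by omega)
  clear h11
  by_cases h13 : c < 14000
  · exact allRange_iff.mp chk_13 c (by omega) (by omega)
  clear h12
  by_cases h14 : c < 15000
  · exact allRange_iff.mp chk_14 c (by omega) (by omega)
  clear h13
  by_cases h15 : c < 16000
  · exact allRange_iff.mp chk_15 c (by omega) (by omega)
  clear h14
  by_cases h16 : c < 17000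
  · exact allRange_iff.mp chk_16 c (by omega) (by omega)
  clear h15
  by_cases h17 : c < 18000
  · exact allRange_iff.mp chk_17 c (by omega) (by omega)
  clear h16
  by_cases h18 : c < 19000
  · exact allRange_iff.mp chk_18 c (by omega) (by omega)
  clear h17
  by_cases h19 : c < 20000
  · exact allRange_iff.mp chk_19 c (by omega) (by omega)
  clear h18
  by_cases h20 : c < 21000
  · exact allRange_iff.mp chk_20 c (by omega) (by omega)
  clear h19
  by_cases h21 : c < 22000
  · exact allRange_iff.mp chk_21 c (by omega) (by omega)
  clear h20
  by_cases h22 : c < 23000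
  · exact allRange_iff.mp chk_22 c (by omega) (by omega)
  clear h21
  by_cases h23 : c < 24000
  · exact allRange_iff.mp chk_23 c (by omega) (by omega)
  clear h22
  by_cases h24 : c < 25000
  · exact allRange_iff.mp chk_24 c (by omega) (by omega)
  clear h23
  by_cases h25 : c < 26000
  · exact allRange_iff.mp chk_25 c (by omega) (by omega)
  clear h24
  by_cases h26 : c < 27000
  · exact allRange_iff.mp chk_26 c (by omega) (by omega)
  clear h25
  by_cases h27 : c < 28000
  · exact allRange_iff.mp chk_27 c (by omega) (by omega)
  clear h26
  by_cases h28 : c < 29000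
  · exact allRange_iff.mp chk_28 c (by omega) (by omega)
  clear h27
  by_cases h29 : c < 30000
  · exact allRange_iff.mp chk_29 c (by omega) (by omega)
  clear h28
  by_cases h30 : c < 31000
  · exact allRange_iff.mp chk_30 c (by omega) (by omega)
  clear h29
  by_cases h31 : c < 32000
  · exact allRange_iff.mp chk_31 c (by omega) (by omega)
  clear h30
  by_cases h32 : c < 33000
  · exact allRange_iff.mp chk_32 c (by omega) (by omega)
  clear h31
  by_cases h33 : c < 34000
  · exact allRange_iff.mp chk_33 c (by omega) (by omega)
  clear h32
  by_cases h34 : c < 35000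
  · exact allRange_iff.mp chk_34 c (by omega) (by omega)
  clear h33
  by_cases h35 : c < 36000
  · exact allRange_iff.mp chk_35 c (by omega) (by omega)
  clear h34
  by_cases h36 : c < 37000
  · exact allRange_iff.mp chk_36 c (by omega) (by omega)
  clear h35
  by_cases h37 : c < 38000
  · exact allRange_iff.mp chk_37 c (by omega) (by omega)
  clear h36
  by_cases h38 : c < 39000
  · exact allRange_iff.mp chk_38 c (by omega) (by omega)
  clear h37
  by_cases h39 : c < 40000
  · exact allRange_iff.mp chk_39 c (by omega) (by omega)
  clear h38
  by_cases h40 : c < 41000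
  · exact allRange_iff.mp chk_40 c (by omega) (by omega)
  clear h39
  by_cases h41 : c < 42000
  · exact allRange_iff.mp chk_41 c (by omega) (by omega)
  clear h40
  by_cases h42 : c < 43000
  · exact allRange_iff.mp chk_42 c (by omega) (by omega)
  clear h41
  by_cases h43 : c < 44000
  · exact allRange_iff.mp chk_43 c (by omega) (by omega)
  clear h42
  by_cases h44 : c < 45000
  · exact allRange_iff.mp chk_44 c (by omega) (by omega)
  clear h43
  by_cases h45 : c < 46000
  · exact allRange_iff.mp chk_45 c (by omega) (by omega)
  clear h44
  by_cases h46 : c < 47000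
  · exact allRange_iff.mp chk_46 c (by omega) (by omega)
  clear h45
  by_cases h47 : c < 48000
  · exact allRange_iff.mp chk_47 c (by omega) (by omega)
  clear h46
  by_cases h48 : c < 49000
  · exact allRange_iff.mp chk_48 c (by omega) (by omega)
  clear h47
  by_cases h49 : c < 50000
  · exact allRange_iff.mp chk_49 c (by omega) (by omega)
  clear h48
  by_cases h50 : c < 51000
  · exact allRange_iff.mp chk_50 c (by omega) (by omega)
  clear h49
  by_cases h51 : c < 52000
  · exact allRange_iff.mp chk_51 c (by omega) (by omega)
  clear h50
  by_cases h52 : c < 53000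
  · exact allRange_iff.mp chk_52 c (by omega) (by omega)
  clear h51
  by_cases h53 : c < 54000
  · exact allRange_iff.mp chk_53 c (by omega) (by omega)
  clear h52
  by_cases h54 : c < 55000
  · exact allRange_iff.mp chk_54 c (by omega) (by omega)
  clear h53
  by_cases h55 : c < 56000
  · exact allRange_iff.mp chk_55 c (by omega) (by omega)
  clear h54
  by_cases h56 : c < 57000
  · exact allRange_iff.mp chk_56 c (by omega) (by omega)
  clear h55
  by_cases h57 : c < 58000
  · exact allRange_iff.mp chk_57 c (by omega) (by omega)
  clear h56
  by_cases h58 : c < 59000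
  · exact allRange_iff.mp chk_58 c (by omega) (by omega)
  clear h57
  by_cases h59 : c < 60000
  · exact allRange_iff.mp chk_59 c (by omega) (by omega)
  clear h58
  by_cases h60 : c < 61000
  · exact allRange_iff.mp chk_60 c (by omega) (by omega)
  clear h59
  by_cases h61 : c < 62000
  · exact allRange_iff.mp chk_61 c (by omega) (by omega)
  clear h60
  by_cases h62 : c < 63000
  · exact allRange_iff.mp chk_62 c (by omega) (by omega)
  clear h61
  by_cases h63 : c < 64000
  · exact allRange_iff.mp chk_63 c (by omega) (by omega)
  clear h62
  by_cases h64 : c < 65000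
  · exact allRange_iff.mp chk_64 c (by omega) (by omega)
  clear h63
  by_cases h65 : c < 66000
  · exact allRange_iff.mp chk_65 c (by omega) (by omega)
  clear h64
  by_cases h66 : c < 67000
  · exact allRange_iff.mp chk_66 c (by omega) (by omega)
  clear h65
  by_cases h67 : c < 68000
  · exact allRange_iff.mp chk_67 c (by omega) (by omega)
  clear h66
  by_cases h68 : c < 69000
  · exact allRange_iff.mp chk_68 c (by omega) (by omega)
  clear h67
  by_cases h69 : c < 70000
  · exact allRange_iff.mp chk_69 c (by omega) (by omega)
  clear h68
  by_cases h70 : c < 71000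
  · exact allRange_iff.mp chk_70 c (by omega) (by omega)
  clear h69
  by_cases h71 : c < 72000
  · exact allRange_iff.mp chk_71 c (by omega) (by omega)
  clear h70
  by_cases h72 : c < 73000
  · exact allRange_iff.mp chk_72 c (by omega) (by omega)
  clear h71
  by_cases h73 : c < 74000
  · exact allRange_iff.mp chk_73 c (by omega) (by omega)
  clear h72
  by_cases h74 : c < 75000
  · exact allRange_iff.mp chk_74 c (by omega) (by omega)
  clear h73
  by_cases h75 : c < 76000
  · exact allRange_iff.mp chk_75 c (by omega) (by omega)
  clear h74
  by_cases h76 : c < 77000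
  · exact allRange_iff.mp chk_76 c (by omega) (by omega)
  clear h75
  by_cases h77 : c < 78000
  · exact allRange_iff.mp chk_77 c (by omega) (by omega)
  clear h76
  by_cases h78 : c < 79000
  · exact allRange_iff.mp chk_78 c (by omega) (by omega)
  clear h77
  by_cases h79 : c < 80000
  · exact allRange_iff.mp chk_79 c (by omega) (by omega)
  clear h78
  by_cases h80 : c < 81000
  · exact allRange_iff.mp chk_80 c (by omega) (by omega)
  clear h79
  by_cases h81 : c < 82000
  · exact allRange_iff.mp chk_81 c (by omega) (by omega)
  clear h80
  by_cases h82 : c < 83000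
  · exact allRange_iff.mp chk_82 c (by omega) (by omega)
  clear h81
  by_cases h83 : c < 84000
  · exact allRange_iff.mp chk_83 c (by omega) (by omega)
  clear h82
  by_cases h84 : c < 85000
  · exact allRange_iff.mp chk_84 c (by omega) (by omega)
  clear h83
  by_cases h85 : c < 86000
  · exact allRange_iff.mp chk_85 c (by omega) (by omega)
  clear h84
  by_cases h86 : c < 87000
  · exact allRange_iff.mp chk_86 c (by omega) (by omega)
  clear h85
  by_cases h87 : c < 88000
  · exact allRange_iff.mp chk_87 c (by omega) (by omega)
  clear h86
  by_cases h88 : c < 89000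
  · exact allRange_iff.mp chk_88 c (by omega) (by omega)
  clear h87
  by_cases h89 : c < 90000
  · exact allRange_iff.mp chk_89 c (by omega) (by omega)
  clear h88
  by_cases h90 : c < 91000
  · exact allRange_iff.mp chk_90 c (by omega) (by omega)
  clear h89
  by_cases h91 : c < 92000
  · exact allRange_iff.mp chk_91 c (by omega) (by omega)
  clear h90
  by_cases h92 : c < 93000
  · exact allRange_iff.mp chk_92 c (by omega) (by omega)
  clear h91
  by_cases h93 : c < 94000
  · exact allRange_iff.mp chk_93 c (by omega) (by omega)
  clear h92
  by_cases h94 : c < 95000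
  · exact allRange_iff.mp chk_94 c (by omega) (by omega)
  clear h93
  by_cases h95 : c < 96000
  · exact allRange_iff.mp chk_95 c (by omega) (by omega)
  clear h94
  by_cases h96 : c < 97000
  · exact allRange_iff.mp chk_96 c (by omega) (by omega)
  clear h95
  by_cases h97 : c < 98000
  · exact allRange_iff.mp chk_97 c (by omega) (by omega)
  clear h96
  by_cases h98 : c < 99000
  · exact allRange_iff.mp chk_98 c (by omega) (by omega)
  clear h97
  by_cases h99 : c < 100000
  · exact allRange_iff.mp chk_99 c (by omega) (by omega)
  clear h98
  by_cases h100 : c < 101000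
  · exact allRange_iff.mp chk_100 c (by omega) (by omega)
  clear h99
  by_cases h101 : c < 102000
  · exact allRange_iff.mp chk_101 c (by omega) (by omega)
  clear h100
  by_cases h102 : c < 103000
  · exact allRange_iff.mp chk_102 c (by omega) (by omega)
  clear h101
  by_cases h103 : c < 104000
  · exact allRange_iff.mp chk_103 c (by omega) (by omega)
  clear h102
  by_cases h104 : c < 105000
  · exact allRange_iff.mp chk_104 c (by omega) (by omega)
  clear h103
  by_cases h105 : c < 106000
  · exact allRange_iff.mp chk_105 c (by omega) (by omega)
  clear h104
  by_cases h106 : c < 107000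
  · exact allRange_iff.mp chk_106 c (by omega) (by omega)
  clear h105
  by_cases h107 : c < 108000
  · exact allRange_iff.mp chk_107 c (by omega) (by omega)
  clear h106
  by_cases h108 : c < 109000
  · exact allRange_iff.mp chk_108 c (by omega) (by omega)
  clear h107
  by_cases h109 : c < 110000
  · exact allRange_iff.mp chk_109 c (by omega) (by omega)
  clear h108
  by_cases h110 : c < 111000
  · exact allRange_iff.mp chk_110 c (by omega) (by omega)
  clear h109
  by_cases h111 : c < 112000
  · exact allRange_iff.mp chk_111 c (by omega) (by omega)
  clear h110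
  by_cases h112 : c < 113000
  · exact allRange_iff.mp chk_112 c (by omega) (by omega)
  clear h111
  by_cases h113 : c < 114000
  · exact allRange_iff.mp chk_113 c (by omega) (by omega)
  clear h112
  by_cases h114 : c < 115000
  · exact allRange_iff.mp chk_114 c (by omega) (by omega)
  clear h113
  by_cases h115 : c < 116000
  · exact allRange_iff.mp chk_115 c (by omega) (by omega)
  clear h114
  by_cases h116 : c < 117000
  · exact allRange_iff.mp chk_116 c (by omega) (by omega)
  clear h115
  by_cases h117 : c < 118000
  · exact allRange_iff.mp chk_117 c (by omega) (by omega)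
  clear h116
  by_cases h118 : c < 119000
  · exact allRange_iff.mp chk_118 c (by omega) (by omega)
  clear h117
  by_cases h119 : c < 120000
  · exact allRange_iff.mp chk_119 c (by omega) (by omega)
  clear h118
  by_cases h120 : c < 121000
  · exact allRange_iff.mp chk_120 c (by omega) (by omega)
  clear h119
  by_cases h121 : c < 122000
  · exact allRange_iff.mp chk_121 c (by omega) (by omega)
  clear h120
  by_cases h122 : c < 123000
  · exact allRange_iff.mp chk_122 c (by omega) (by omega)
  clear h121
  by_cases h123 : c < 124000
  · exact allRange_iff.mp chk_123 c (by omega) (by omega)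
  clear h122
  by_cases h124 : c < 125000
  · exact allRange_iff.mp chk_124 c (by omega) (by omega)
  clear h123
  by_cases h125 : c < 126000
  · exact allRange_iff.mp chk_125 c (by omega) (by omega)
  clear h124
  by_cases h126 : c < 127000
  · exact allRange_iff.mp chk_126 c (by omega) (by omega)
  clear h125
  by_cases h127 : c < 128000
  · exact allRange_iff.mp chk_127 c (by omega) (by omega)
  clear h126
  by_cases h128 : c < 129000
  · exact allRange_iff.mp chk_128 c (by omega) (by omega)
  clear h127
  by_cases h129 : c < 130000
  · exact allRange_iff.mp chk_129 c (by omega) (by omega)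
  clear h128
  by_cases h130 : c < 131000
  · exact allRange_iff.mp chk_130 c (by omega) (by omega)
  clear h129
  by_cases h131 : c < 132000
  · exact allRange_iff.mp chk_131 c (by omega) (by omega)
  clear h130
  by_cases h132 : c < 133000
  · exact allRange_iff.mp chk_132 c (by omega) (by omega)
  clear h131
  by_cases h133 : c < 134000
  · exact allRange_iff.mp chk_133 c (by omega) (by omega)
  clear h132
  by_cases h134 : c < 135000
  · exact allRange_iff.mp chk_134 c (by omega) (by omega)
  clear h133
  by_cases h135 : c < 136000
  · exact allRange_iff.mp chk_135 c (by omega) (by omega)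
  clear h134
  by_cases h136 : c < 137000
  · exact allRange_iff.mp chk_136 c (by omega) (by omega)
  clear h135
  by_cases h137 : c < 138000
  · exact allRange_iff.mp chk_137 c (by omega) (by omega)
  clear h136
  by_cases h138 : c < 139000
  · exact allRange_iff.mp chk_138 c (by omega) (by omega)
  clear h137
  by_cases h139 : c < 140000
  · exact allRange_iff.mp chk_139 c (by omega) (by omega)
  clear h138
  by_cases h140 : c < 141000
  · exact allRange_iff.mp chk_140 c (by omega) (by omega)
  clear h139
  by_cases h141 : c < 142000
  · exact allRange_iff.mp chk_141 c (by omega) (by omega)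
  clear h140
  by_cases h142 : c < 143000
  · exact allRange_iff.mp chk_142 c (by omega) (by omega)
  clear h141
  by_cases h143 : c < 144000
  · exact allRange_iff.mp chk_143 c (by omega) (by omega)
  clear h142
  by_cases h144 : c < 145000
  · exact allRange_iff.mp chk_144 c (by omega) (by omega)
  clear h143
  by_cases h145 : c < 146000
  · exact allRange_iff.mp chk_145 c (by omega) (by omega)
  clear h144
  by_cases h146 : c < 147000
  · exact allRange_iff.mp chk_146 c (by omega) (by omega)
  clear h145
  by_cases h147 : c < 148000
  · exact allRange_iff.mp chk_147 c (by omega) (by omega)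
  clear h146
  by_cases h148 : c < 149000
  · exact allRange_iff.mp chk_148 c (by omega) (by omega)
  clear h147
  by_cases h149 : c < 150000
  · exact allRange_iff.mp chk_149 c (by omega) (by omega)
  clear h148
  by_cases h150 : c < 151000
  · exact allRange_iff.mp chk_150 c (by omega) (by omega)
  clear h149
  by_cases h151 : c < 152000
  · exact allRange_iff.mp chk_151 c (by omega) (by omega)
  clear h150
  by_cases h152 : c < 153000
  · exact allRange_iff.mp chk_152 c (by omega) (by omega)
  clear h151
  by_cases h153 : c < 154000
  · exact allRange_iff.mp chk_153 c (by omega) (by omega)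
  clear h152
  by_cases h154 : c < 155000
  · exact allRange_iff.mp chk_154 c (by omega) (by omega)
  clear h153
  by_cases h155 : c < 156000
  · exact allRange_iff.mp chk_155 c (by omega) (by omega)
  clear h154
  by_cases h156 : c < 157000
  · exact allRange_iff.mp chk_156 c (by omega) (by omega)
  clear h155
  by_cases h157 : c < 158000
  · exact allRange_iff.mp chk_157 c (by omega) (by omega)
  clear h156
  by_cases h158 : c < 159000
  · exact allRange_iff.mp chk_158 c (by omega) (by omega)
  clear h157
  by_cases h159 : c < 160000
  · exact allRange_iff.mp chk_159 c (by omega) (by omega)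
  clear h158
  by_cases h160 : c < 161000
  · exact allRange_iff.mp chk_160 c (by omega) (by omega)
  clear h159
  by_cases h161 : c < 162000
  · exact allRange_iff.mp chk_161 c (by omega) (by omega)
  clear h160
  by_cases h162 : c < 163000
  · exact allRange_iff.mp chk_162 c (by omega) (by omega)
  clear h161
  by_cases h163 : c < 164000
  · exact allRange_iff.mp chk_163 c (by omega) (by omega)
  clear h162
  by_cases h164 : c < 165000
  · exact allRange_iff.mp chk_164 c (by omega) (by omega)
  clear h163
  by_cases h165 : c < 166000
  · exact allRange_iff.mp chk_165 c (by omega) (by omega)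
  clear h164
  by_cases h166 : c < 167000
  · exact allRange_iff.mp chk_166 c (by omega) (by omega)
  clear h165
  by_cases h167 : c < 168000
  · exact allRange_iff.mp chk_167 c (by omega) (by omega)
  clear h166
  by_cases h168 : c < 169000
  · exact allRange_iff.mp chk_168 c (by omega) (by omega)
  clear h167
  by_cases h169 : c < 170000
  · exact allRange_iff.mp chk_169 c (by omega) (by omega)
  clear h168
  by_cases h170 : c < 171000
  · exact allRange_iff.mp chk_170 c (by omega) (by omega)
  clear h169
  by_cases h171 : c < 172000
  · exact allRange_iff.mp chk_171 c (by omega) (by omega)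
  clear h170
  by_cases h172 : c < 173000
  · exact allRange_iff.mp chk_172 c (by omega) (by omega)
  clear h171
  by_cases h173 : c < 174000
  · exact allRange_iff.mp chk_173 c (by omega) (by omega)
  clear h172
  by_cases h174 : c < 175000
  · exact allRange_iff.mp chk_174 c (by omega) (by omega)
  clear h173
  by_cases h175 : c < 176000
  · exact allRange_iff.mp chk_175 c (by omega) (by omega)
  clear h174
  by_cases h176 : c < 177000
  · exact allRange_iff.mp chk_176 c (by omega) (by omega)
  clear h175
  by_cases h177 : c < 178000
  · exact allRange_iff.mp chk_177 c (by omega) (by omega)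
  clear h176
  by_cases h178 : c < 179000
  · exact allRange_iff.mp chk_178 c (by omega) (by omega)
  clear h177
  by_cases h179 : c < 180000
  · exact allRange_iff.mp chk_179 c (by omega) (by omega)
  clear h178
  by_cases h180 : c < 181000
  · exact allRange_iff.mp chk_180 c (by omega) (by omega)
  clear h179
  by_cases h181 : c < 182000
  · exact allRange_iff.mp chk_181 c (by omega) (by omega)
  clear h180
  by_cases h182 : c < 183000
  · exact allRange_iff.mp chk_182 c (by omega) (by omega)
  clear h181
  by_cases h183 : c < 184000
  · exact allRange_iff.mp chk_183 c (by omega) (by omega)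
  clear h182
  by_cases h184 : c < 185000
  · exact allRange_iff.mp chk_184 c (by omega) (by omega)
  clear h183
  by_cases h185 : c < 186000
  · exact allRange_iff.mp chk_185 c (by omega) (by omega)
  clear h184
  by_cases h186 : c < 187000
  · exact allRange_iff.mp chk_186 c (by omega) (by omega)
  clear h185
  by_cases h187 : c < 188000
  · exact allRange_iff.mp chk_187 c (by omega) (by omega)
  clear h186
  by_cases h188 : c < 189000
  · exact allRange_iff.mp chk_188 c (by omega) (by omega)
  clear h187
  by_cases h189 : c < 190000
  · exact allRange_iff.mp chk_189 c (by omega) (by omega)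
  clear h188
  by_cases h190 : c < 191000
  · exact allRange_iff.mp chk_190 c (by omega) (by omega)
  clear h189
  by_cases h191 : c < 192000
  · exact allRange_iff.mp chk_191 c (by omega) (by omega)
  clear h190
  by_cases h192 : c < 193000
  · exact allRange_iff.mp chk_192 c (by omega) (by omega)
  clear h191
  by_cases h193 : c < 194000
  · exact allRange_iff.mp chk_193 c (by omega) (by omega)
  clear h192
  by_cases h194 : c < 195000
  · exact allRange_iff.mp chk_194 c (by omega) (by omega)
  clear h193
  by_cases h195 : c < 196000
  · exact allRange_iff.mp chk_195 c (by omega) (by omega)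
  clear h194
  by_cases h196 : c < 197000
  · exact allRange_iff.mp chk_196 c (by omega) (by omega)
  clear h195
  by_cases h197 : c < 198000
  · exact allRange_iff.mp chk_197 c (by omega) (by omega)
  clear h196
  by_cases h198 : c < 199000
  · exact allRange_iff.mp chk_198 c (by omega) (by omega)
  clear h197
  by_cases h199 : c < 200000
  · exact allRange_iff.mp chk_199 c (by omega) (by omega)
  clear h198
  by_cases h200 : c < 201000
  · exact allRange_iff.mp chk_200 c (by omega) (by omega)
  clear h199
  by_cases h201 : c < 202000
  · exact allRange_iff.mp chk_201 c (by omega) (by omega)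
  clear h200
  by_cases h202 : c < 203000
  · exact allRange_iff.mp chk_202 c (by omega) (by omega)
  clear h201
  by_cases h203 : c < 204000
  · exact allRange_iff.mp chk_203 c (by omega) (by omega)
  clear h202
  by_cases h204 : c < 205000
  · exact allRange_iff.mp chk_204 c (by omega) (by omega)
  clear h203
  by_cases h205 : c < 206000
  · exact allRange_iff.mp chk_205 c (by omega) (by omega)
  clear h204
  by_cases h206 : c < 207000
  · exact allRange_iff.mp chk_206 c (by omega) (by omega)
  clear h205
  by_cases h207 : c < 208000
  · exact allRange_iff.mp chk_207 c (by omega) (by omega)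
  clear h206
  by_cases h208 : c < 209000
  · exact allRange_iff.mp chk_208 c (by omega) (by omega)
  clear h207
  by_cases h209 : c < 210000
  · exact allRange_iff.mp chk_209 c (by omega) (by omega)
  clear h208
  by_cases h210 : c < 211000
  · exact allRange_iff.mp chk_210 c (by omega) (by omega)
  clear h209
  by_cases h211 : c < 212000
  · exact allRange_iff.mp chk_211 c (by omega) (by omega)
  clear h210
  by_cases h212 : c < 213000
  · exact allRange_iff.mp chk_212 c (by omega) (by omega)
  clear h211
  by_cases h213 : c < 214000
  · exact allRange_iff.mp chk_213 c (by omega) (by omega)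
  clear h212
  by_cases h214 : c < 215000
  · exact allRange_iff.mp chk_214 c (by omega) (by omega)
  clear h213
  by_cases h215 : c < 216000
  · exact allRange_iff.mp chk_215 c (by omega) (by omega)
  clear h214
  by_cases h216 : c < 217000
  · exact allRange_iff.mp chk_216 c (by omega) (by omega)
  clear h215
  by_cases h217 : c < 218000
  · exact allRange_iff.mp chk_217 c (by omega) (by omega)
  clear h216
  by_cases h218 : c < 219000
  · exact allRange_iff.mp chk_218 c (by omega) (by omega)
  clear h217
  by_cases h219 : c < 220000
  · exact allRange_iff.mp chk_219 c (by omega) (by omega)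
  clear h218
  by_cases h220 : c < 221000
  · exact allRange_iff.mp chk_220 c (by omega) (by omega)
  clear h219
  by_cases h221 : c < 222000
  · exact allRange_iff.mp chk_221 c (by omega) (by omega)
  clear h220
  by_cases h222 : c < 223000
  · exact allRange_iff.mp chk_222 c (by omega) (by omega)
  clear h221
  by_cases h223 : c < 224000
  · exact allRange_iff.mp chk_223 c (by omega) (by omega)
  clear h222
  by_cases h224 : c < 225000
  · exact allRange_iff.mp chk_224 c (by omega) (by omega)
  clear h223
  by_cases h225 : c < 226000
  · exact allRange_iff.mp chk_225 c (by omega) (by omega)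
  clear h224
  by_cases h226 : c < 227000
  · exact allRange_iff.mp chk_226 c (by omega) (by omega)
  clear h225
  by_cases h227 : c < 228000
  · exact allRange_iff.mp chk_227 c (by omega) (by omega)
  clear h226
  by_cases h228 : c < 229000
  · exact allRange_iff.mp chk_228 c (by omega) (by omega)
  clear h227
  by_cases h229 : c < 230000
  · exact allRange_iff.mp chk_229 c (by omega) (by omega)
  clear h228
  by_cases h230 : c < 231000
  · exact allRange_iff.mp chk_230 c (by omega) (by omega)
  clear h229
  by_cases h231 : c < 232000
  · exact allRange_iff.mp chk_231 c (by omega) (by omega)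
  clear h230
  by_cases h232 : c < 233000
  · exact allRange_iff.mp chk_232 c (by omega) (by omega)
  clear h231
  by_cases h233 : c < 234000
  · exact allRange_iff.mp chk_233 c (by omega) (by omega)
  clear h232
  by_cases h234 : c < 235000
  · exact allRange_iff.mp chk_234 c (by omega) (by omega)
  clear h233
  by_cases h235 : c < 236000
  · exact allRange_iff.mp chk_235 c (by omega) (by omega)
  clear h234
  by_cases h236 : c < 237000
  · exact allRange_iff.mp chk_236 c (by omega) (by omega)
  clear h235
  by_cases h237 : c < 238000
  · exact allRange_iff.mp chk_237 c (by omega) (by omega)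
  clear h236
  by_cases h238 : c < 239000
  · exact allRange_iff.mp chk_238 c (by omega) (by omega)
  clear h237
  by_cases h239 : c < 240000
  · exact allRange_iff.mp chk_239 c (by omega) (by omega)
  clear h238
  by_cases h240 : c < 241000
  · exact allRange_iff.mp chk_240 c (by omega) (by omega)
  clear h239
  by_cases h241 : c < 242000
  · exact allRange_iff.mp chk_241 c (by omega) (by omega)
  clear h240
  by_cases h242 : c < 243000
  · exact allRange_iff.mp chk_242 c (by omega) (by omega)
  clear h241
  by_cases h243 : c < 244000
  · exact allRange_iff.mp chk_243 c (by omega) (by omega)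
  clear h242
  by_cases h244 : c < 245000
  · exact allRange_iff.mp chk_244 c (by omega) (by omega)
  clear h243
  by_cases h245 : c < 246000
  · exact allRange_iff.mp chk_245 c (by omega) (by omega)
  clear h244
  by_cases h246 : c < 247000
  · exact allRange_iff.mp chk_246 c (by omega) (by omega)
  clear h245
  by_cases h247 : c < 248000
  · exact allRange_iff.mp chk_247 c (by omega) (by omega)
  clear h246
  by_cases h248 : c < 249000
  · exact allRange_iff.mp chk_248 c (by omega) (by omega)
  clear h247
  by_cases h249 : c < 250000
  · exact allRange_iff.mp chk_249 c (by omega) (by omega)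
  clear h248
  by_cases h250 : c < 251000
  · exact allRange_iff.mp chk_250 c (by omega) (by omega)
  clear h249
  by_cases h251 : c < 252000
  · exact allRange_iff.mp chk_251 c (by omega) (by omega)
  clear h250
  by_cases h252 : c < 253000
  · exact allRange_iff.mp chk_252 c (by omega) (by omega)
  clear h251
  by_cases h253 : c < 254000
  · exact allRange_iff.mp chk_253 c (by omega) (by omega)
  clear h252
  by_cases h254 : c < 255000
  · exact allRange_iff.mp chk_254 c (by omega) (by omega)
  clear h253
  by_cases h255 : c < 256000
  · exact allRange_iff.mp chk_255 c (by omega) (by omega)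
  clear h254
  by_cases h256 : c < 257000
  · exact allRange_iff.mp chk_256 c (by omega) (by omega)
  clear h255
  by_cases h257 : c < 258000
  · exact allRange_iff.mp chk_257 c (by omega) (by omega)
  clear h256
  by_cases h258 : c < 259000
  · exact allRange_iff.mp chk_258 c (by omega) (by omega)
  clear h257
  by_cases h259 : c < 260000
  · exact allRange_iff.mp chk_259 c (by omega) (by omega)
  clear h258
  by_cases h260 : c < 261000
  · exact allRange_iff.mp chk_260 c (by omega) (by omega)
  clear h259
  by_cases h261 : c < 262000
  · exact allRange_iff.mp chk_261 c (by omega) (by omega)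
  clear h260
  by_cases h262 : c < 263000
  · exact allRange_iff.mp chk_262 c (by omega) (by omega)
  clear h261
  by_cases h263 : c < 264000
  · exact allRange_iff.mp chk_263 c (by omega) (by omega)
  clear h262
  by_cases h264 : c < 265000
  · exact allRange_iff.mp chk_264 c (by omega) (by omega)
  clear h263
  by_cases h265 : c < 266000
  · exact allRange_iff.mp chk_265 c (by omega) (by omega)
  clear h264
  by_cases h266 : c < 267000
  · exact allRange_iff.mp chk_266 c (by omega) (by omega)
  clear h265
  by_cases h267 : c < 268000
  · exact allRange_iff.mp chk_267 c (by omega) (by omega)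
  clear h266
  by_cases h268 : c < 269000
  · exact allRange_iff.mp chk_268 c (by omega) (by omega)
  clear h267
  by_cases h269 : c < 270000
  · exact allRange_iff.mp chk_269 c (by omega) (by omega)
  clear h268
  by_cases h270 : c < 271000
  · exact allRange_iff.mp chk_270 c (by omega) (by omega)
  clear h269
  by_cases h271 : c < 272000
  · exact allRange_iff.mp chk_271 c (by omega) (by omega)
  clear h270
  by_cases h272 : c < 273000
  · exact allRange_iff.mp chk_272 c (by omega) (by omega)
  clear h271
  by_cases h273 : c < 274000
  · exact allRange_iff.mp chk_273 c (by omega) (by omega)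
  clear h272
  by_cases h274 : c < 275000
  · exact allRange_iff.mp chk_274 c (by omega) (by omega)
  clear h273
  by_cases h275 : c < 276000
  · exact allRange_iff.mp chk_275 c (by omega) (by omega)
  clear h274
  by_cases h276 : c < 277000
  · exact allRange_iff.mp chk_276 c (by omega) (by omega)
  clear h275
  by_cases h277 : c < 278000
  · exact allRange_iff.mp chk_277 c (by omega) (by omega)
  clear h276
  by_cases h278 : c < 279000
  · exact allRange_iff.mp chk_278 c (by omega) (by omega)
  clear h277
  by_cases h279 : c < 280000
  · exact allRange_iff.mp chk_279 c (by omega) (by omega)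
  clear h278
  by_cases h280 : c < 281000
  · exact allRange_iff.mp chk_280 c (by omega) (by omega)
  clear h279
  by_cases h281 : c < 282000
  · exact allRange_iff.mp chk_281 c (by omega) (by omega)
  clear h280
  by_cases h282 : c < 283000
  · exact allRange_iff.mp chk_282 c (by omega) (by omega)
  clear h281
  by_cases h283 : c < 284000
  · exact allRange_iff.mp chk_283 c (by omega) (by omega)
  clear h282
  by_cases h284 : c < 285000
  · exact allRange_iff.mp chk_284 c (by omega) (by omega)
  clear h283
  by_cases h285 : c < 286000
  · exact allRange_iff.mp chk_285 c (by omega) (by omega)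
  clear h284
  by_cases h286 : c < 287000
  · exact allRange_iff.mp chk_286 c (by omega) (by omega)
  clear h285
  by_cases h287 : c < 288000
  · exact allRange_iff.mp chk_287 c (by omega) (by omega)
  clear h286
  by_cases h288 : c < 289000
  · exact allRange_iff.mp chk_288 c (by omega) (by omega)
  clear h287
  by_cases h289 : c < 290000
  · exact allRange_iff.mp chk_289 c (by omega) (by omega)
  clear h288
  by_cases h290 : c < 291000
  · exact allRange_iff.mp chk_290 c (by omega) (by omega)
  clear h289
  by_cases h291 : c < 292000
  · exact allRange_iff.mp chk_291 c (by omega) (by omega)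
  clear h290
  by_cases h292 : c < 293000
  · exact allRange_iff.mp chk_292 c (by omega) (by omega)
  clear h291
  by_cases h293 : c < 294000
  · exact allRange_iff.mp chk_293 c (by omega) (by omega)
  clear h292
  by_cases h294 : c < 295000
  · exact allRange_iff.mp chk_294 c (by omega) (by omega)
  clear h293
  by_cases h295 : c < 296000
  · exact allRange_iff.mp chk_295 c (by omega) (by omega)
  clear h294
  by_cases h296 : c < 297000
  · exact allRange_iff.mp chk_296 c (by omega) (by omega)
  clear h295
  by_cases h297 : c < 298000
  · exact allRange_iff.mp chk_297 c (by omega) (by omega)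
  clear h296
  by_cases h298 : c < 299000
  · exact allRange_iff.mp chk_298 c (by omega) (by omega)
  clear h297
  by_cases h299 : c < 300000
  · exact allRange_iff.mp chk_299 c (by omega) (by omega)
  clear h298
  by_cases h300 : c < 301000
  · exact allRange_iff.mp chk_300 c (by omega) (by omega)
  clear h299
  by_cases h301 : c < 302000
  · exact allRange_iff.mp chk_301 c (by omega) (by omega)
  clear h300
  by_cases h302 : c < 303000
  · exact allRange_iff.mp chk_302 c (by omega) (by omega)
  clear h301
  by_cases h303 : c < 304000
  · exact allRange_iff.mp chk_303 c (by omega) (by omega)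
  clear h302
  by_cases h304 : c < 305000
  · exact allRange_iff.mp chk_304 c (by omega) (by omega)
  clear h303
  by_cases h305 : c < 306000
  · exact allRange_iff.mp chk_305 c (by omega) (by omega)
  clear h304
  by_cases h306 : c < 307000
  · exact allRange_iff.mp chk_306 c (by omega) (by omega)
  clear h305
  by_cases h307 : c < 308000
  · exact allRange_iff.mp chk_307 c (by omega) (by omega)
  clear h306
  by_cases h308 : c < 309000
  · exact allRange_iff.mp chk_308 c (by omega) (by omega)
  clear h307
  by_cases h309 : c < 310000
  · exact allRange_iff.mp chk_309 c (by omega) (by omega)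
  clear h308
  by_cases h310 : c < 311000
  · exact allRange_iff.mp chk_310 c (by omega) (by omega)
  clear h309
  by_cases h311 : c < 312000
  · exact allRange_iff.mp chk_311 c (by omega) (by omega)
  clear h310
  by_cases h312 : c < 313000
  · exact allRange_iff.mp chk_312 c (by omega) (by omega)
  clear h311
  by_cases h313 : c < 314000
  · exact allRange_iff.mp chk_313 c (by omega) (by omega)
  clear h312
  by_cases h314 : c < 315000
  · exact allRange_iff.mp chk_314 c (by omega) (by omega)
  clear h313
  by_cases h315 : c < 316000
  · exact allRange_iff.mp chk_315 c (by omega) (by omega)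
  clear h314
  by_cases h316 : c < 317000
  · exact allRange_iff.mp chk_316 c (by omega) (by omega)
  clear h315
  by_cases h317 : c < 318000
  · exact allRange_iff.mp chk_317 c (by omega) (by omega)
  clear h316
  by_cases h318 : c < 319000
  · exact allRange_iff.mp chk_318 c (by omega) (by omega)
  clear h317
  by_cases h319 : c < 320000
  · exact allRange_iff.mp chk_319 c (by omega) (by omega)
  clear h318
  by_cases h320 : c < 321000
  · exact allRange_iff.mp chk_320 c (by omega) (by omega)
  clear h319
  by_cases h321 : c < 322000
  · exact allRange_iff.mp chk_321 c (by omega) (by omega)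
  clear h320
  by_cases h322 : c < 323000
  · exact allRange_iff.mp chk_322 c (by omega) (by omega)
  clear h321
  by_cases h323 : c < 324000
  · exact allRange_iff.mp chk_323 c (by omega) (by omega)
  clear h322
  by_cases h324 : c < 325000
  · exact allRange_iff.mp chk_324 c (by omega) (by omega)
  clear h323
  by_cases h325 : c < 326000
  · exact allRange_iff.mp chk_325 c (by omega) (by omega)
  clear h324
  by_cases h326 : c < 327000
  · exact allRange_iff.mp chk_326 c (by omega) (by omega)
  clear h325
  by_cases h327 : c < 328000
  · exact allRange_iff.mp chk_327 c (by omega) (by omega)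
  clear h326
  by_cases h328 : c < 329000
  · exact allRange_iff.mp chk_328 c (by omega) (by omega)
  clear h327
  by_cases h329 : c < 330000
  · exact allRange_iff.mp chk_329 c (by omega) (by omega)
  clear h328
  by_cases h330 : c < 331000
  · exact allRange_iff.mp chk_330 c (by omega) (by omega)
  clear h329
  by_cases h331 : c < 332000
  · exact allRange_iff.mp chk_331 c (by omega) (by omega)
  clear h330
  by_cases h332 : c < 333000
  · exact allRange_iff.mp chk_332 c (by omega) (by omega)
  clear h331
  by_cases h333 : c < 334000
  · exact allRange_iff.mp chk_333 c (by omega) (by omega)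
  clear h332
  by_cases h334 : c < 335000
  · exact allRange_iff.mp chk_334 c (by omega) (by omega)
  clear h333
  by_cases h335 : c < 336000
  · exact allRange_iff.mp chk_335 c (by omega) (by omega)
  clear h334
  by_cases h336 : c < 337000
  · exact allRange_iff.mp chk_336 c (by omega) (by omega)
  clear h335
  by_cases h337 : c < 338000
  · exact allRange_iff.mp chk_337 c (by omega) (by omega)
  clear h336
  by_cases h338 : c < 339000
  · exact allRange_iff.mp chk_338 c (by omega) (by omega)
  clear h337
  by_cases h339 : c < 340000
  · exact allRange_iff.mp chk_339 c (by omega) (by omega)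
  clear h338
  by_cases h340 : c < 341000
  · exact allRange_iff.mp chk_340 c (by omega) (by omega)
  clear h339
  by_cases h341 : c < 342000
  · exact allRange_iff.mp chk_341 c (by omega) (by omega)
  clear h340
  by_cases h342 : c < 343000
  · exact allRange_iff.mp chk_342 c (by omega) (by omega)
  clear h341
  by_cases h343 : c < 344000
  · exact allRange_iff.mp chk_343 c (by omega) (by omega)
  clear h342
  by_cases h344 : c < 345000
  · exact allRange_iff.mp chk_344 c (by omega) (by omega)
  clear h343
  by_cases h345 : c < 346000
  · exact allRange_iff.mp chk_345 c (by omega) (by omega)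
  clear h344
  by_cases h346 : c < 347000
  · exact allRange_iff.mp chk_346 c (by omega) (by omega)
  clear h345
  by_cases h347 : c < 348000
  · exact allRange_iff.mp chk_347 c (by omega) (by omega)
  clear h346
  by_cases h348 : c < 349000
  · exact allRange_iff.mp chk_348 c (by omega) (by omega)
  clear h347
  by_cases h349 : c < 349988
  · exact allRange_iff.mp chk_349 c (by omega) (by omega)
  clear h348
  omega
theorem fin_all : ∀ c < D.m, D.finalLabel c = true := by
  intro c hc
  have hc' : c < 349988 := hc
  by_cases h0 : c < 20000
  · exact allRange_iff.mp fin_0 c (by omega) (by omega)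
  by_cases h1 : c < 40000
  · exact allRange_iff.mp fin_1 c (by omega) (by omega)
  clear h0
  by_cases h2 : c < 60000
  · exact allRange_iff.mp fin_2 c (by omega) (by omega)
  clear h1
  by_cases h3 : c < 80000
  · exact allRange_iff.mp fin_3 c (by omega) (by omega)
  clear h2
  by_cases h4 : c < 100000
  · exact allRange_iff.mp fin_4 c (by omega) (by omega)
  clear h3
  by_cases h5 : c < 120000
  · exact allRange_iff.mp fin_5 c (by omega) (by omega)
  clear h4
  by_cases h6 : c < 140000
  · exact allRange_iff.mp fin_6 c (by omega) (by omega)
  clear h5
  by_cases h7 : c < 160000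
  · exact allRange_iff.mp fin_7 c (by omega) (by omega)
  clear h6
  by_cases h8 : c < 180000
  · exact allRange_iff.mp fin_8 c (by omega) (by omega)
  clear h7
  by_cases h9 : c < 200000
  · exact allRange_iff.mp fin_9 c (by omega) (by omega)
  clear h8
  by_cases h10 : c < 220000
  · exact allRange_iff.mp fin_10 c (by omega) (by omega)
  clear h9
  by_cases h11 : c < 240000
  · exact allRange_iff.mp fin_11 c (by omega) (by omega)
  clear h10
  by_cases h12 : c < 260000
  · exact allRange_iff.mp fin_12 c (by omega) (by omega)
  clear h11
  by_cases h13 : c < 280000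
  · exact allRange_iff.mp fin_13 c (by omega) (by omega)
  clear h12
  by_cases h14 : c < 300000
  · exact allRange_iff.mp fin_14 c (by omega) (by omega)
  clear h13
  by_cases h15 : c < 320000
  · exact allRange_iff.mp fin_15 c (by omega) (by omega)
  clear h14
  by_cases h16 : c < 340000
  · exact allRange_iff.mp fin_16 c (by omega) (by omega)
  clear h15
  by_cases h17 : c < 349988
  · exact allRange_iff.mp fin_17 c (by omega) (by omega)
  clear h16
  omega

end Cfsg.Agent.Lib.Helper30.Fi24.F306936
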