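import Cfsg.Agent.Lib.Helper30.Fi24.F306936DataL
import Cfsg.Agent.Lib.Helper28.TCStab

set_option autoImplicit false
set_option maxRecDepth 100000

namespace Cfsg.Agent.Lib.Helper30.Fi24.F306936

open Cfsg.Agent.Lib.Helper28

noncomputable def lev9C : Tr := .node (.node (.node (.node (.node (.node (.node (.node (.node (.leaf 0x2682004200000000000000000000000000000000000000000000000000000000000000000000000000000000000000000000000000000000000000000000000000000000000000000000000000000000000000000000000000000000000000000000000000000000000000000000000000000000000000000000000000000000000000000000000000000000000000000000000000000000000000000000000000000000000000000000000000000000000000000000000000000000000000000000000000000000000000000019800022000000000000000000000000000000000000000000000000000000000000000000000000000000000000000000000000000000000000000000000000000000000000000000000000000000000000000000000000000000000000000000000000000000000000000000000000000000000000000000000000000000000000000000066000008000000000000000000000000000000000000000000000000000000000000000000000000000000000000000000000000000000000000000000000000000000000000000000000000000000000000000000000000000000000000000000000000000000000000000000000000000000000000000000000000000000000000000000000000000000000000000000000000000000000000000000000000000000000000000000000000000000000000000000000000000000000000000000000000000000000000000000000000000000000000000000000000000000000000000000000000000000000000000000000000000000000000000000000000000000000000000000)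
 (.leaf 0))
 (.leaf 0))
 (.leaf 0))
 (.leaf 0))
 (.leaf 0))
 (.leaf 0))
 (.leaf 0))
 (.leaf 0))
 (.leaf 0)
def lev9T : List (List ℕ) := [
  [10],
  [11]]
noncomputable def lev9 : Lev where
  b := 51
  T := lev9T
  info := field [lev9C] 10 1023 41 2199023255551 0
  cnt := 3
theorem lev9_tree_0 : allRange (lev9.checkTree L) 0 100000 = true := by decide +kernel
theorem lev9_tree_1 : allRange (lev9.checkTree L) 100000 100000 = true := by decide +kernel
theorem lev9_tree_2 : allRange (lev9.checkTree L) 200000 100000 = true := by decide +kernel
theorem lev9_tree_3 : allRange (lev9.checkTree L) 300000 6936 = true := by decide +kernel
theorem lev9_tree : ∀ c < L.n, lev9.checkTree L c = true := by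
  intro c hc
  have hc' : c < 306936 := hc
  by_cases h0 : c < 100000
  · exact allRange_iff.mp lev9_tree_0 c (by omega) (by omega)
  by_cases h1 : c < 200000
  · exact allRange_iff.mp lev9_tree_1 c (by omega) (by omega)
  clear h0
  by_cases h2 : c < 300000
  · exact allRange_iff.mp lev9_tree_2 c (by omega) (by omega)
  clear h1
  by_cases h3 : c < 306936
  · exact allRange_iff.mp lev9_tree_3 c (by omega) (by omega)
  clear h2
  omega
theorem lev9_ok : lev9.OK L [24, 12, 249, 510, 6, 964, 2, 72450, 0] where
  hb := by decide
  letters := by decide +kernel
  fix := by decide +kernel
  tree := lev9_tree
  count := by decide +kernel

end Cfsg.Agent.Lib.Helper30.Fi24.F306936
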