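import Cfsg.Agent.Lib.Helper30.Fi24.F306936OrbC0
import Cfsg.Agent.Lib.Helper30.Fi24.F306936OrbC1
import Cfsg.Agent.Lib.Helper30.Fi24.F306936OrbC2
import Cfsg.Agent.Lib.Helper30.Fi24.F306936OrbC3
import Cfsg.Agent.Lib.Helper30.Fi24.F306936OrbT
import Cfsg.Agent.Lib.Helper30.Fi24.F306936

set_option autoImplicit false
set_option maxRecDepth 100000

namespace Cfsg.Agent.Lib.Helper30.Fi24.F306936

open Cfsg.Agent.Lib.Helper28

theorem O_ok : O.OK Q where
  inv := by
    intro c hc
    have hc' : c < 306936 := hc
    by_cases h0 : c < 8000
    · exact allRange_iff.mp oinv_0 c (by omega) (by omega)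
    by_cases h1 : c < 16000
    · exact allRange_iff.mp oinv_1 c (by omega) (by omega)
    clear h0
    by_cases h2 : c < 24000
    · exact allRange_iff.mp oinv_2 c (by omega) (by omega)
    clear h1
    by_cases h3 : c < 32000
    · exact allRange_iff.mp oinv_3 c (by omega) (by omega)
    clear h2
    by_cases h4 : c < 40000
    · exact allRange_iff.mp oinv_4 c (by omega) (by omega)
    clear h3
    by_cases h5 : c < 48000
    · exact allRange_iff.mp oinv_5 c (by omega) (by omega)
    clear h4
    by_cases h6 : c < 56000
    · exact allRange_iff.mp oinv_6 c (by omega) (by omega)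
    clear h5
    by_cases h7 : c < 64000
    · exact allRange_iff.mp oinv_7 c (by omega) (by omega)
    clear h6
    by_cases h8 : c < 72000
    · exact allRange_iff.mp oinv_8 c (by omega) (by omega)
    clear h7
    by_cases h9 : c < 80000
    · exact allRange_iff.mp oinv_9 c (by omega) (by omega)
    clear h8
    by_cases h10 : c < 88000
    · exact allRange_iff.mp oinv_10 c (by omega) (by omega)
    clear h9
    by_cases h11 : c < 96000
    · exact allRange_iff.mp oinv_11 c (by omega) (by omega)
    clear h10
    by_cases h12 : c < 104000
    · exact allRange_iff.mp oinv_12 c (by omega) (by omega)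
    clear h11
    by_cases h13 : c < 112000
    · exact allRange_iff.mp oinv_13 c (by omega) (by omega)
    clear h12
    by_cases h14 : c < 120000
    · exact allRange_iff.mp oinv_14 c (by omega) (by omega)
    clear h13
    by_cases h15 : c < 128000
    · exact allRange_iff.mp oinv_15 c (by omega) (by omega)
    clear h14
    by_cases h16 : c < 136000
    · exact allRange_iff.mp oinv_16 c (by omega) (by omega)
    clear h15
    by_cases h17 : c < 144000
    · exact allRange_iff.mp oinv_17 c (by omega) (by omega)
    clear h16
    by_cases h18 : c < 152000
    · exact allRange_iff.mp oinv_18 c (by omega) (by omega)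
    clear h17
    by_cases h19 : c < 160000
    · exact allRange_iff.mp oinv_19 c (by omega) (by omega)
    clear h18
    by_cases h20 : c < 168000
    · exact allRange_iff.mp oinv_20 c (by omega) (by omega)
    clear h19
    by_cases h21 : c < 176000
    · exact allRange_iff.mp oinv_21 c (by omega) (by omega)
    clear h20
    by_cases h22 : c < 184000
    · exact allRange_iff.mp oinv_22 c (by omega) (by omega)
    clear h21
    by_cases h23 : c < 192000
    · exact allRange_iff.mp oinv_23 c (by omega) (by omega)
    clear h22
    by_cases h24 : c < 200000
    · exact allRange_iff.mp oinv_24 c (by omega) (by omega)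
    clear h23
    by_cases h25 : c < 208000
    · exact allRange_iff.mp oinv_25 c (by omega) (by omega)
    clear h24
    by_cases h26 : c < 216000
    · exact allRange_iff.mp oinv_26 c (by omega) (by omega)
    clear h25
    by_cases h27 : c < 224000
    · exact allRange_iff.mp oinv_27 c (by omega) (by omega)
    clear h26
    by_cases h28 : c < 232000
    · exact allRange_iff.mp oinv_28 c (by omega) (by omega)
    clear h27
    by_cases h29 : c < 240000
    · exact allRange_iff.mp oinv_29 c (by omega) (by omega)
    clear h28
    by_cases h30 : c < 248000
    · exact allRange_iff.mp oinv_30 c (by omega) (by omega)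
    clear h29
    by_cases h31 : c < 256000
    · exact allRange_iff.mp oinv_31 c (by omega) (by omega)
    clear h30
    by_cases h32 : c < 264000
    · exact allRange_iff.mp oinv_32 c (by omega) (by omega)
    clear h31
    by_cases h33 : c < 272000
    · exact allRange_iff.mp oinv_33 c (by omega) (by omega)
    clear h32
    by_cases h34 : c < 280000
    · exact allRange_iff.mp oinv_34 c (by omega) (by omega)
    clear h33
    by_cases h35 : c < 288000
    · exact allRange_iff.mp oinv_35 c (by omega) (by omega)
    clear h34
    by_cases h36 : c < 296000
    · exact allRange_iff.mp oinv_36 c (by omega) (by omega)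
    clear h35
    by_cases h37 : c < 304000
    · exact allRange_iff.mp oinv_37 c (by omega) (by omega)
    clear h36
    by_cases h38 : c < 306936
    · exact allRange_iff.mp oinv_38 c (by omega) (by omega)
    clear h37
    omega
  tree := by
    intro c hc
    have hc' : c < 306936 := hc
    by_cases h0 : c < 30000
    · exact allRange_iff.mp otree_0 c (by omega) (by omega)
    by_cases h1 : c < 60000
    · exact allRange_iff.mp otree_1 c (by omega) (by omega)
    clear h0
    by_cases h2 : c < 90000
    · exact allRange_iff.mp otree_2 c (by omega) (by omega)
    clear h1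
    by_cases h3 : c < 120000
    · exact allRange_iff.mp otree_3 c (by omega) (by omega)
    clear h2
    by_cases h4 : c < 150000
    · exact allRange_iff.mp otree_4 c (by omega) (by omega)
    clear h3
    by_cases h5 : c < 180000
    · exact allRange_iff.mp otree_5 c (by omega) (by omega)
    clear h4
    by_cases h6 : c < 210000
    · exact allRange_iff.mp otree_6 c (by omega) (by omega)
    clear h5
    by_cases h7 : c < 240000
    · exact allRange_iff.mp otree_7 c (by omega) (by omega)
    clear h6
    by_cases h8 : c < 270000
    · exact allRange_iff.mp otree_8 c (by omega) (by omega)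
    clear h7
    by_cases h9 : c < 300000
    · exact allRange_iff.mp otree_9 c (by omega) (by omega)
    clear h8
    by_cases h10 : c < 306936
    · exact allRange_iff.mp otree_10 c (by omega) (by omega)
    clear h9
    omega
theorem hS1 : ∀ E ∈ Q.subE, E.value Q.P.lfree ∈ S := by
  intro E hE
  simp only [Q, subE, List.mem_cons, List.mem_nil_iff, or_false] at hE
  rcases hE with rfl | rfl | rfl | rfl | rfl | rfl | rfl | rfl | rfl | rfl | rfl <;> simp [S, WExp.value, Q, Cfsg.Agent.Lib.Helper30.Fi24.Fi24PD.pd, Cfsg.Agent.Lib.Helper30.Fi24.Fi24PD.lfree]

end Cfsg.Agent.Lib.Helper30.Fi24.F306936
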