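import Cfsg.Agent.Lib.Helper28.TCChain
import Cfsg.Agent.Lib.Helper30.Fi24.Fi24PD

set_option autoImplicit false
set_option maxRecDepth 100000

namespace Cfsg.Agent.Lib.Helper30.Fi24.Fi24L7

open Cfsg.Agent.Lib.Helper28

noncomputable def tabC0 : Tr := .leaf 0x6f3579ac4d52d17599d12252368b05d100782dd4c96429d4c854218c82220
noncomputable def auxC0 : Tr := .leaf 0x196b08dcdaab3566458289b309e8c42604b0948800000834e699522a4686a8d111a12001000
noncomputable def tabC1 : Tr := .leaf 0x6f3579ab960e8358b04de52e2843de26b150b418095421d0c653210846010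
noncomputable def auxC1 : Tr := .leaf 0x196f095ceaad71e63c96001039e9312648b9203a8748e0000019622c46c6b0d211c11c00001
noncomputable def tabC2 : Tr := .leaf 0x6f35781c85e6d55890c46813083bd9ccd662a4502b0501d0c653189004210
noncomputable def auxC2 : Tr := .leaf 0x197309dcc00135e70c9789903000000606b0d49aa14c2830e60000004706b8d311800001801
noncomputable def tabC3 : Tr := .leaf 0x6f323a0c55e6d358a44de02d1903d9631062b814895311d10641280c84210
noncomputable def auxC3 : Tr := .leaf 0x197708000abd37a64c9e8bf07de8310000b1148000492000ef99e23c474e80d000012402001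
noncomputable def tabC4 : Tr := .leaf 0x687619bc55e6d358a44de4f167ac19cac46aa8d688249944c870218c84210
noncomputable def auxC4 : Tr := .leaf 0x1964005cfab13626549889f03df132260af655128a63283d4c9984324646c00011e12802801
noncomputable def tabC5 : Tr := .leaf 0x6f7599bb0d070131b8542511783bd9ccd662ad5487128a408280300c84210
noncomputable def auxC5 : Tr := .leaf 0x199711de0aa935000494000001f1b2360cb1951a8b496880f01942280006a00000012c03001
noncomputable def tabC6 : Tr := .leaf 0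
noncomputable def auxC6 : Tr := .leaf 0
noncomputable def dC : Tr := .leaf 0x191301dc2a8b31660c85885009e1b03600b0141a81482808e118520a410628c310410400000
noncomputable def tabCols : List Tr := [tabC0, tabC1, tabC2, tabC3, tabC4, tabC5, tabC6]
noncomputable def auxCols : List Tr := [auxC0, auxC1, auxC2, auxC3, auxC4, auxC5, auxC6]
def pairsC : List ((List ℕ × ℕ × List ℕ) × ℕ) := [
  (([0], 0, []), 0),
  (([0], 2, [2, 0]), 7168),
  (([0], 3, [3, 0]), 8192),
  (([0], 4, [4, 0]), 9216),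
  (([0], 5, [5, 0]), 10240),
  (([1], 1, []), 1024),
  (([1], 0, [0, 1, 0, 1]), 6145),
  (([1], 3, [3, 1]), 12288),
  (([1], 4, [4, 1]), 13312),
  (([1], 5, [5, 1]), 14336),
  (([2], 2, []), 2048),
  (([2], 0, [0, 2]), 7169),
  (([2], 1, [1, 2, 1, 2]), 11265),
  (([2], 4, [4, 2]), 16384),
  (([3], 3, []), 3072),
  (([3], 0, [0, 3]), 8193),
  (([3], 1, [1, 3]), 12289),
  (([3], 2, [2, 3, 2, 3]), 15361),
  (([5], 5, []), 5120),
  (([5], 0, [0, 5]), 10241),
  (([5], 1, [1, 5]), 14337),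
  (([5], 2, [2, 5, 2, 5]), 17409),
  (([5], 4, [4, 5]), 20481),
  (([4], 4, []), 4096),
  (([4], 0, [0, 4]), 9217),
  (([4], 1, [1, 4]), 13313),
  (([4], 2, [2, 4]), 16385),
  (([4], 3, [3, 4, 3, 4]), 18433),
  (([5], 3, [3, 5]), 19457),
  (([2], 3, [3, 2, 3, 2]), 15360),
  (([2], 5, [5, 2, 5, 2]), 17408),
  (([1], 2, [2, 1, 2, 1]), 11264),
  (([3], 4, [4, 3, 4, 3]), 18432),
  (([3], 5, [5, 3]), 19456),
  (([0], 1, [1, 0, 1, 0]), 6144),
  (([4], 5, [5, 4]), 20480),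
  (([], 6, []), 28672)]
def subL : List ℕ := [1, 2, 3, 4, 5]
noncomputable def D : UB where
  tab := field tabCols 6 63 9 511
  aux := field auxCols 6 63 11 2047
  dinfo := field [dC] 6 63 11 2047 0
  rb := 4
  RM := 15
  pb := 6
  PM := 63
  m := 27
  K := 6
  Kall := 7
  pairs := pairsC.map Prod.fst
  isSub := fun x => subL.contains x
  fuel := 64
def ren : ℕ → ℕ
  | 0 => 3
  | 1 => 4
  | 2 => 5
  | 3 => 6
  | 4 => 7
  | 5 => 10
  | _ => 0
def relsL : List (List ℕ) := [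
  [0, 0],
  [1, 1],
  [2, 2],
  [3, 3],
  [4, 4],
  [5, 5],
  [0, 1, 0, 1, 0, 1],
  [0, 2, 0, 2],
  [0, 3, 0, 3],
  [0, 4, 0, 4],
  [0, 5, 0, 5],
  [1, 2, 1, 2, 1, 2],
  [1, 3, 1, 3],
  [1, 4, 1, 4],
  [1, 5, 1, 5],
  [2, 3, 2, 3, 2, 3],
  [2, 4, 2, 4],
  [2, 5, 2, 5, 2, 5],
  [3, 4, 3, 4, 3, 4],
  [3, 5, 3, 5],
  [4, 5, 4, 5]]
noncomputable def Lk : Link where
  D := D
  ren := ren
  inv := fun x => x
  rels := relsL
  pairsC := pairsC
  subL := subL
  n := 27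
theorem chk_0 : allRange D.checkLabel 0 27 = true := by decide +kernel
theorem check_all : ∀ c < D.m, D.checkLabel c = true := by
  intro c hc
  have hc' : c < 27 := hc
  by_cases h0 : c < 27
  · exact allRange_iff.mp chk_0 c (by omega) (by omega)
  omega
theorem pairs_ok : pairsC.all (pairOK (relsAll relsL (fun x => x) 7) (fun x => x) 6 7) = true := by decide +kernel
theorem relsK_ok : ∀ r ∈ relsAll relsL (fun x => x) 7, ∀ y ∈ r, y < 7 := by decide +kernel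
theorem core : Lk.Core (Cfsg.Agent.Lib.Helper30.Fi24.Fi24PD.pd.words ++ [[5, 4, 3, 5, 6, 7, 5, 10, 11, 5, 4, 3, 5, 6, 7, 5, 10, 11, 5, 4, 3, 5, 6, 7, 5, 10, 11, 5, 4, 3, 5, 6, 7, 5, 10, 11, 5, 4, 3, 5, 6, 7, 5, 10, 11, 5, 4, 3, 5, 6, 7, 5, 10, 11, 5, 4, 3, 5, 6, 7, 5, 10, 11, 5, 4, 3, 5, 6, 7, 5, 10, 11, 5, 4, 3, 5, 6, 7, 5, 10, 11, 5, 4, 3, 5, 6, 7, 5, 10, 11]]) Cfsg.Agent.Lib.Helper30.Fi24.Fi24PD.pd.inv Cfsg.Agent.Lib.Helper30.Fi24.Fi24PD.pd.K [4, 5, 6, 7, 10] where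
  Kall := rfl
  invK := by decide +kernel
  invE := rfl
  relsIn := by decide +kernel
  Dpairs := rfl
  pairs := pairs_ok
  relsK := relsK_ok
  isSub := by
    intro x hx
    have hx' : subL.contains x = true := hx
    show x ∈ subL
    simpa using hx'
  sub := by decide +kernel
  check := check_all
theorem fin_all : allBelow D.finalLabel 27 = true := by decide +kernel
theorem live_count : D.liveCount = 27 := by decide +kernel
theorem h0_ok : D.tg D.K 0 = 0 := by decide +kernel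
theorem ok : Lk.OK (Cfsg.Agent.Lib.Helper30.Fi24.Fi24PD.pd.words ++ [[5, 4, 3, 5, 6, 7, 5, 10, 11, 5, 4, 3, 5, 6, 7, 5, 10, 11, 5, 4, 3, 5, 6, 7, 5, 10, 11, 5, 4, 3, 5, 6, 7, 5, 10, 11, 5, 4, 3, 5, 6, 7, 5, 10, 11, 5, 4, 3, 5, 6, 7, 5, 10, 11, 5, 4, 3, 5, 6, 7, 5, 10, 11, 5, 4, 3, 5, 6, 7, 5, 10, 11, 5, 4, 3, 5, 6, 7, 5, 10, 11, 5, 4, 3, 5, 6, 7, 5, 10, 11]]) Cfsg.Agent.Lib.Helper30.Fi24.Fi24PD.pd.inv Cfsg.Agent.Lib.Helper30.Fi24.Fi24PD.pd.K [3, 4, 5, 6, 7, 10] [4, 5, 6, 7, 10] where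
  toCore := core
  gens := by decide +kernel
  hm := by decide
  h0 := h0_ok
  fin := allBelow_iff.mp fin_all
  count := live_count

end Cfsg.Agent.Lib.Helper30.Fi24.Fi24L7

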