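import Cfsg.Agent.Lib.Helper28.TCChain
import Cfsg.Agent.Lib.Helper30.Fi24.Y522PD

set_option autoImplicit false
set_option maxRecDepth 100000

namespace Cfsg.Agent.Lib.Helper30.Fi24.Y522L3

open Cfsg.Agent.Lib.Helper28

noncomputable def tabC0 : Tr := .leaf 0x3
noncomputable def auxC0 : Tr := .leaf 0x2
noncomputable def tabC1 : Tr := .leaf 0x2
noncomputable def auxC1 : Tr := .leaf 0x1
noncomputable def tabC2 : Tr := .leaf 0x2
noncomputable def auxC2 : Tr := .leaf 0x1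
noncomputable def tabC3 : Tr := .leaf 0x2
noncomputable def auxC3 : Tr := .leaf 0x1
noncomputable def tabC4 : Tr := .leaf 0x2
noncomputable def auxC4 : Tr := .leaf 0x1
noncomputable def tabC5 : Tr := .leaf 0x2
noncomputable def auxC5 : Tr := .leaf 0x1
noncomputable def tabC6 : Tr := .leaf 0x2
noncomputable def auxC6 : Tr := .leaf 0x1
noncomputable def tabC7 : Tr := .leaf 0x2
noncomputable def auxC7 : Tr := .leaf 0x1
noncomputable def tabC8 : Tr := .leaf 0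
noncomputable def auxC8 : Tr := .leaf 0
noncomputable def dC : Tr := .leaf 0
noncomputable def tabCols : List Tr := [tabC0, tabC1, tabC2, tabC3, tabC4, tabC5, tabC6, tabC7, tabC8]
noncomputable def auxCols : List Tr := [auxC0, auxC1, auxC2, auxC3, auxC4, auxC5, auxC6, auxC7, auxC8]
def pairsC : List ((List ℕ × ℕ × List ℕ) × ℕ) := [
  (([7, 6, 5, 4, 3, 2, 1, 7, 6, 5, 4, 3, 2, 1, 7, 6, 5, 4, 3, 2, 1, 7, 6, 5, 4, 3, 2, 1, 7, 6, 5, 4, 3, 2, 1, 7, 6, 5, 4, 3, 2, 1, 7, 6, 5, 4, 3, 2, 1, 7, 6, 5, 4, 3, 2, 1, 7, 6, 5, 4, 3, 2, 1], 0, []), 36866),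
  (([], 8, []), 47104)]
def subL : List ℕ := [1, 2, 3, 4, 5, 6, 7]
noncomputable def D : UB where
  tab := field tabCols 6 63 3 7
  aux := field auxCols 6 63 4 15
  dinfo := field [dC] 6 63 7 127 0
  rb := 1
  RM := 1
  pb := 3
  PM := 7
  m := 1
  K := 8
  Kall := 9
  pairs := pairsC.map Prod.fst
  isSub := fun x => subL.contains x
  fuel := 64
def ren : ℕ → ℕ
  | 0 => 0
  | 1 => 2
  | 2 => 3
  | 3 => 4
  | 4 => 5
  | 5 => 6
  | 6 => 7
  | 7 => 8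
  | _ => 0
def relsL : List (List ℕ) := [
  [0, 0],
  [1, 1],
  [2, 2],
  [3, 3],
  [4, 4],
  [5, 5],
  [6, 6],
  [7, 7],
  [0, 1, 0, 1],
  [0, 2, 0, 2],
  [0, 3, 0, 3],
  [0, 4, 0, 4],
  [0, 5, 0, 5],
  [0, 6, 0, 6],
  [0, 7, 0, 7],
  [1, 2, 1, 2, 1, 2],
  [1, 3, 1, 3],
  [1, 4, 1, 4],
  [1, 5, 1, 5],
  [1, 6, 1, 6],
  [1, 7, 1, 7],
  [2, 3, 2, 3, 2, 3],
  [2, 4, 2, 4],
  [2, 5, 2, 5],
  [2, 6, 2, 6],
  [2, 7, 2, 7],
  [3, 4, 3, 4, 3, 4],
  [3, 5, 3, 5],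
  [3, 6, 3, 6],
  [3, 7, 3, 7],
  [4, 5, 4, 5, 4, 5],
  [4, 6, 4, 6],
  [4, 7, 4, 7, 4, 7],
  [5, 6, 5, 6, 5, 6],
  [5, 7, 5, 7],
  [6, 7, 6, 7],
  [0, 7, 6, 5, 4, 3, 2, 1, 7, 6, 5, 4, 3, 2, 1, 7, 6, 5, 4, 3, 2, 1, 7, 6, 5, 4, 3, 2, 1, 7, 6, 5, 4, 3, 2, 1, 7, 6, 5, 4, 3, 2, 1, 7, 6, 5, 4, 3, 2, 1, 7, 6, 5, 4, 3, 2, 1, 7, 6, 5, 4, 3, 2, 1]]
noncomputable def Lk : Link where
  D := D
  ren := ren
  inv := fun x => x
  rels := relsL
  pairsC := pairsC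
  subL := subL
  n := 1
theorem chk_0 : allRange D.checkLabel 0 1 = true := by decide +kernel
theorem check_all : ∀ c < D.m, D.checkLabel c = true := by
  intro c hc
  have hc' : c < 1 := hc
  by_cases h0 : c < 1
  · exact allRange_iff.mp chk_0 c (by omega) (by omega)
  omega
theorem pairs_ok : pairsC.all (pairOK (relsAll relsL (fun x => x) 9) (fun x => x) 8 9) = true := by decide +kernel
theorem relsK_ok : ∀ r ∈ relsAll relsL (fun x => x) 9, ∀ y ∈ r, y < 9 := by decide +kernel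
theorem core : Lk.Core (Cfsg.Agent.Lib.Helper30.Fi24.Y522PD.pd.words) Cfsg.Agent.Lib.Helper30.Fi24.Y522PD.pd.inv Cfsg.Agent.Lib.Helper30.Fi24.Y522PD.pd.K [2, 3, 4, 5, 6, 7, 8] where
  Kall := rfl
  invK := by decide +kernel
  invE := rfl
  relsIn := by decide +kernel
  Dpairs := rfl
  pairs := pairs_ok
  relsK := relsK_ok
  isSub := by
    intro x hx
    have hx' : subL.contains x = true := hx
    show x ∈ subL
    simpa using hx'
  sub := by decide +kernel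
  check := check_all
theorem fin_all : allBelow D.finalLabel 1 = true := by decide +kernel
theorem live_count : D.liveCount = 1 := by decide +kernel
theorem h0_ok : D.tg D.K 0 = 0 := by decide +kernel
theorem ok : Lk.OK (Cfsg.Agent.Lib.Helper30.Fi24.Y522PD.pd.words) Cfsg.Agent.Lib.Helper30.Fi24.Y522PD.pd.inv Cfsg.Agent.Lib.Helper30.Fi24.Y522PD.pd.K [0, 2, 3, 4, 5, 6, 7, 8] [2, 3, 4, 5, 6, 7, 8] where
  toCore := core
  gens := by decide +kernel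
  hm := by decide
  h0 := h0_ok
  fin := allBelow_iff.mp fin_all
  count := live_count

end Cfsg.Agent.Lib.Helper30.Fi24.Y522L3

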