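import Cfsg.Agent.Lib.Helper28.TCChain
import Cfsg.Agent.Lib.Helper30.Fi24.Y522PD

set_option autoImplicit false
set_option maxRecDepth 100000

namespace Cfsg.Agent.Lib.Helper30.Fi24.Y522L4

open Cfsg.Agent.Lib.Helper28

noncomputable def tabC0 : Tr := .leaf 0xdc3c036a6b3d259c728e30c217bee7daeb1d422a6d2dad329e664e888d1ae43be5815099c236478ae9581b2c688a8965ae3442805252804c07a4e49a831059ca392620c394628a410618810840
noncomputable def auxC0 : Tr := .leaf 0xd82000d0fcd5c5fbdfbdab5fb65ae5ad5a65a1a9a595a94fa828da8959828157df8c271f70980265f64f74270259555f6424da4555824023c235a0000002da2cf28f2552151df15f16511f11a0d508f049002000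
noncomputable def tabC1 : Tr := .leaf 0xe2bb07706b3d259c728e30c217bee7d65b1d69a7252da1b51641cac98908a25c63742fa9e6c00648da5a6385586bad822425149a5519c13427a11020030e598a312520a390620a310410430020
noncomputable def auxC1 : Tr := .leaf 0xdb1d48000cd6c60be0bdbb60b66ae6ad6a66a1bb0895b950926a4889685b9487e07968887086a06600005e05d05966c85164db5c841b4313f15083483082db0000002562161e016016612011b0d6090048000001
noncomputable def tabC2 : Tr := .leaf 0xe2bbd350ec0d259c728e30c2168ee7de4a855bac1cc1a1b3b6904ac9191ba25bc281ae0a11b417c6c05d03296c0ba9642a95129a0f122840e90cc0961380680a312520a390620a30c220020820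
noncomputable def auxC2 : Tr := .leaf 0xd83d70d0e000c61be1bdcb61b67ae7ad7b8ea1c9a7ace94e9278dc00085c8177e17977217306a180e64e78e5ce0005610004dc45741c4033c335c37033044e2ce28e0000001e116116712111c0d708e000003001
noncomputable def tabC3 : Tr := .leaf 0xe2bbd369e81d419c728e30bc580ec0dafb815baa752fa1b3b630cac843301f0c80819101e5bab714da970b29542d0120b005129a16022840e79ce39a6282484c016020a3906208114018820820
noncomputable def auxC3 : Tr := .leaf 0xd84d4ad2dcd4000be2bddb62b68bd4ad4a680009a895d96d9288dd89485d81400079400070a00066266d5e25ed5945625140004540004043c400034a30a2dd2ed2ad25421400000016812211d0d400004a004001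
noncomputable def tabC4 : Tr := .leaf 0xe2bbd369eb2cc5a0f00e31c817c2e85afa435ba60d80a1b206a04419c11b65042c818fade5bab714da9a5329612a05642215c09a0e0aa040e605201a63c0594a30e220a48c508c010618820820
noncomputable def auxC4 : Tr := .leaf 0xd85d4bd11cebc6acd9bd9b6a000ae9aeba69a199a99590009298d90008590007ea00072a70b6aa66a6515ea5d15ab56a52b4d946b4190003c535900030b2d900029100022b1ea16a16921911900009104b005001
noncomputable def tabC5 : Tr := .leaf 0xe2dbd76a6b3d2588b28e63b8360700541bc1386d052f9435826750091b1b62642c818fade5bab714da9a5329612ba5642a84cca1d23a0544c798d21c52c661091143182394800a410618820820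
noncomputable def auxC5 : Tr := .leaf 0xd86d4cd12cd8c63be3beeca4b64ae4000a640009a40009529240008980008187e379872370c6a36636525e35d25985635184ee45842e4064e436e34c4242ee2d23642582e41e32641641230000d809204c006001
noncomputable def tabC6 : Tr := .leaf 0xe2bbd369eb2c83807405c1cc17c3105afb1f5baa752ea1b3b666cac91900625ba18c0d85a0c20602f81e02c1700ba9902a95129a12422840e79ce39a630c594808c1280284900e010618820820
noncomputable def auxC6 : Tr := .leaf 0xd87d4dd13cecc5ebde000b5e000af2000a72a2f9b296f9539328ef8ac86f82c7de7ac71e00069e65e0005de00000055e0004ef00042f4073c736f34d30d2ef2d329326c22c1de15e00011e00000009304d007001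
noncomputable def tabC7 : Tr := .leaf 0
noncomputable def auxC7 : Tr := .leaf 0
noncomputable def dC : Tr := .leaf 0xd80d41d02cc3c46bc6bc4b46b45ac5ac3a45a049859449429058c48838448037c67837067016866466425c65c25835465034c44434044003c03443413012c42c22822432031c61461451061040c3082041000000
noncomputable def tabCols : List Tr := [tabC0, tabC1, tabC2, tabC3, tabC4, tabC5, tabC6, tabC7]
noncomputable def auxCols : List Tr := [auxC0, auxC1, auxC2, auxC3, auxC4, auxC5, auxC6, auxC7]
def pairsC : List ((List ℕ × ℕ × List ℕ) × ℕ) := [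
  (([0], 0, []), 0),
  (([0], 2, [2, 0]), 8192),
  (([0], 3, [3, 0]), 9216),
  (([0], 4, [4, 0]), 10240),
  (([0], 5, [5, 0]), 11264),
  (([0], 6, [6, 0]), 12288),
  (([1], 1, []), 1024),
  (([1], 0, [0, 1, 0, 1]), 7169),
  (([1], 3, [3, 1]), 14336),
  (([1], 4, [4, 1]), 15360),
  (([1], 5, [5, 1]), 16384),
  (([1], 6, [6, 1]), 17408),
  (([2], 2, []), 2048),
  (([2], 0, [0, 2]), 8193),
  (([2], 1, [1, 2, 1, 2]), 13313),
  (([2], 4, [4, 2]), 19456),
  (([2], 5, [5, 2]), 20480),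
  (([2], 6, [6, 2]), 21504),
  (([3], 3, []), 3072),
  (([3], 0, [0, 3]), 9217),
  (([3], 1, [1, 3]), 14337),
  (([3], 2, [2, 3, 2, 3]), 18433),
  (([3], 5, [5, 3]), 23552),
  (([4], 4, []), 4096),
  (([4], 0, [0, 4]), 10241),
  (([4], 1, [1, 4]), 15361),
  (([4], 2, [2, 4]), 19457),
  (([4], 3, [3, 4, 3, 4]), 22529),
  (([6], 6, []), 6144),
  (([6], 0, [0, 6]), 12289),
  (([6], 1, [1, 6]), 17409),
  (([6], 2, [2, 6]), 21505),
  (([6], 3, [3, 6, 3, 6]), 24577),
  (([6], 5, [5, 6]), 27649),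
  (([5], 5, []), 5120),
  (([5], 0, [0, 5]), 11265),
  (([5], 1, [1, 5]), 16385),
  (([5], 2, [2, 5]), 20481),
  (([5], 3, [3, 5]), 23553),
  (([5], 4, [4, 5, 4, 5]), 25601),
  (([6], 4, [4, 6]), 26625),
  (([3], 4, [4, 3, 4, 3]), 22528),
  (([3], 6, [6, 3, 6, 3]), 24576),
  (([2], 3, [3, 2, 3, 2]), 18432),
  (([4], 5, [5, 4, 5, 4]), 25600),
  (([4], 6, [6, 4]), 26624),
  (([1], 2, [2, 1, 2, 1]), 13312),
  (([0], 1, [1, 0, 1, 0]), 7168),
  (([5], 6, [6, 5]), 27648),
  (([], 7, []), 36864)]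
def subL : List ℕ := [1, 2, 3, 4, 5, 6]
noncomputable def D : UB where
  tab := field tabCols 6 63 11 2047
  aux := field auxCols 6 63 12 4095
  dinfo := field [dC] 6 63 12 4095 0
  rb := 5
  RM := 31
  pb := 6
  PM := 63
  m := 56
  K := 7
  Kall := 8
  pairs := pairsC.map Prod.fst
  isSub := fun x => subL.contains x
  fuel := 64
def ren : ℕ → ℕ
  | 0 => 2
  | 1 => 3
  | 2 => 4
  | 3 => 5
  | 4 => 6
  | 5 => 7
  | 6 => 8
  | _ => 0
def relsL : List (List ℕ) := [
  [0, 0],
  [1, 1],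
  [2, 2],
  [3, 3],
  [4, 4],
  [5, 5],
  [6, 6],
  [0, 1, 0, 1, 0, 1],
  [0, 2, 0, 2],
  [0, 3, 0, 3],
  [0, 4, 0, 4],
  [0, 5, 0, 5],
  [0, 6, 0, 6],
  [1, 2, 1, 2, 1, 2],
  [1, 3, 1, 3],
  [1, 4, 1, 4],
  [1, 5, 1, 5],
  [1, 6, 1, 6],
  [2, 3, 2, 3, 2, 3],
  [2, 4, 2, 4],
  [2, 5, 2, 5],
  [2, 6, 2, 6],
  [3, 4, 3, 4, 3, 4],
  [3, 5, 3, 5],
  [3, 6, 3, 6, 3, 6],
  [4, 5, 4, 5, 4, 5],
  [4, 6, 4, 6],
  [5, 6, 5, 6]]
noncomputable def Lk : Link where
  D := D
  ren := ren
  inv := fun x => x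
  rels := relsL
  pairsC := pairsC
  subL := subL
  n := 56
theorem chk_0 : allRange D.checkLabel 0 56 = true := by decide +kernel
theorem check_all : ∀ c < D.m, D.checkLabel c = true := by
  intro c hc
  have hc' : c < 56 := hc
  by_cases h0 : c < 56
  · exact allRange_iff.mp chk_0 c (by omega) (by omega)
  omega
theorem pairs_ok : pairsC.all (pairOK (relsAll relsL (fun x => x) 8) (fun x => x) 7 8) = true := by decide +kernel
theorem relsK_ok : ∀ r ∈ relsAll relsL (fun x => x) 8, ∀ y ∈ r, y < 8 := by decide +kernel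
theorem core : Lk.Core (Cfsg.Agent.Lib.Helper30.Fi24.Y522PD.pd.words) Cfsg.Agent.Lib.Helper30.Fi24.Y522PD.pd.inv Cfsg.Agent.Lib.Helper30.Fi24.Y522PD.pd.K [3, 4, 5, 6, 7, 8] where
  Kall := rfl
  invK := by decide +kernel
  invE := rfl
  relsIn := by decide +kernel
  Dpairs := rfl
  pairs := pairs_ok
  relsK := relsK_ok
  isSub := by
    intro x hx
    have hx' : subL.contains x = true := hx
    show x ∈ subL
    simpa using hx'
  sub := by decide +kernel
  check := check_all
theorem fin_all : allBelow D.finalLabel 56 = true := by decide +kernel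
theorem live_count : D.liveCount = 56 := by decide +kernel
theorem h0_ok : D.tg D.K 0 = 0 := by decide +kernel
theorem ok : Lk.OK (Cfsg.Agent.Lib.Helper30.Fi24.Y522PD.pd.words) Cfsg.Agent.Lib.Helper30.Fi24.Y522PD.pd.inv Cfsg.Agent.Lib.Helper30.Fi24.Y522PD.pd.K [2, 3, 4, 5, 6, 7, 8] [3, 4, 5, 6, 7, 8] where
  toCore := core
  gens := by decide +kernel
  hm := by decide
  h0 := h0_ok
  fin := allBelow_iff.mp fin_all
  count := live_count

end Cfsg.Agent.Lib.Helper30.Fi24.Y522L4

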